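import Cfsg.Agent.SymSylow.Basic

/-!
Sylow 2-subgroups of alternating groups: even parts of those of the symmetric group, self-normalising and
non-abelian from degree 6 on.
-/

set_option autoImplicit false

namespace Cfsg.Agent.SymSylow

open Equiv

theorem exists_map_sylow_alt {n : ℕ} (P : Sylow 2 (alternatingGroup (Fin n))) :
    ∃ Q : Sylow 2 (Perm (Fin n)), (P : Subgroup (alternatingGroup (Fin n))).map (alternatingGroup (Fin n)).subtype =
      (Q : Subgroup (Perm (Fin n))) ⊓ alternatingGroup (Fin n) := by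
  obtain ⟨Q, hQ⟩ := (P.2.map (alternatingGroup (Fin n)).subtype).exists_le_sylow
  refine ⟨Q, ?_⟩
  have h1 : IsPGroup 2 ((Q : Subgroup (Perm (Fin n))).subgroupOf (alternatingGroup (Fin n))) :=
    Q.2.comap_of_injective _ (Subgroup.subtype_injective _)
  have h2 : (Q : Subgroup (Perm (Fin n))).subgroupOf (alternatingGroup (Fin n)) = (P : Subgroup (alternatingGroup (Fin n))) :=
    P.3 h1 (fun x hx => hQ (Subgroup.mem_map_of_mem _ hx))
  rw [← h2, Subgroup.subgroupOf_map_subtype]

/-- A Sylow 2-subgroup of an alternating group of degree at least 6 is its own normaliser. -/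
theorem normalizer_sylow_alt {n : ℕ} (hn : 6 ≤ n) (P : Sylow 2 (alternatingGroup (Fin n))) :
    Subgroup.normalizer ((P : Subgroup (alternatingGroup (Fin n))) : Set (alternatingGroup (Fin n))) =
      (P : Subgroup (alternatingGroup (Fin n))) := by
  refine le_antisymm ?_ Subgroup.le_normalizer
  obtain ⟨Q, hQ⟩ := exists_map_sylow_alt P
  intro g hg
  have h1 : (g : Perm (Fin n)) ∈ (Q : Subgroup (Perm (Fin n))) := by
    refine normalizer_even_part_le hn Q ?_
    rw [← hQ]
    exact Subgroup.le_normalizer_map _ (Subgroup.mem_map_of_mem _ hg)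
  have h2 : (g : Perm (Fin n)) ∈ (P : Subgroup (alternatingGroup (Fin n))).map (alternatingGroup (Fin n)).subtype := by
    rw [hQ]; exact ⟨h1, g.2⟩
  obtain ⟨y, hy, hyg⟩ := h2
  rwa [← Subtype.ext hyg]

/-- The double transposition exchanging the first two pairs. -/
theorem exists_noncomm {n : ℕ} (hn : 6 ≤ n) :
    ∃ (Q : Sylow 2 (Perm (Fin n))), ∃ c d : Perm (Fin n), c ∈ (Q : Subgroup (Perm (Fin n))) ∧
      d ∈ (Q : Subgroup (Perm (Fin n))) ∧ c ∈ alternatingGroup (Fin n) ∧ d ∈ alternatingGroup (Fin n) ∧ c * d ≠ d * c := by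
  haveI : Fact (Nat.Prime 2) := ⟨Nat.prime_two⟩
  let a : ℕ → Fin n := fun i => if h : i < n then ⟨i, h⟩ else ⟨0, by omega⟩
  have ha : ∀ i, i < 6 → (a i).val = i := fun i hi => by simp only [a, dif_pos (show i < n by omega)]
  have hne : ∀ i j, i < 6 → j < 6 → i ≠ j → a i ≠ a j := fun i j hi hj h e => h (by rw [← ha i hi, ← ha j hj, e])
  have hp : ∀ i, i < 6 → partner n (a i) = a (if i % 2 = 0 then i + 1 else i - 1) := by
    intro i hi
    apply Fin.ext
    rw [partner_val, ha i hi, ha _ (by split_ifs <;> omega)]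
    split_ifs <;> omega
  set c : Perm (Fin n) := swap (a 0) (a 2) * swap (a 1) (a 3) with hc
  set d : Perm (Fin n) := swap (a 0) (a 1) * swap (a 4) (a 5) with hd
  have hcW : c ∈ pairCentralizer n := by
    rw [pairCentralizer, Subgroup.mem_centralizer_singleton_iff]
    have hconj : partner n * c * (partner n)⁻¹ = c := by
      have e : partner n * c * (partner n)⁻¹ =
          (partner n * swap (a 0) (a 2) * (partner n)⁻¹) * (partner n * swap (a 1) (a 3) * (partner n)⁻¹) := by
        rw [hc]; group
      rw [e, ← swap_apply_apply, ← swap_apply_apply, hp 0 (by omega), hp 2 (by omega), hp 1 (by omega),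
        hp 3 (by omega)]
      simp only [Nat.zero_mod, if_pos, show ¬ (1 % 2 = 0) by omega, show ¬ (3 % 2 = 0) by omega, if_neg,
        show 2 % 2 = 0 by omega]
      rw [hc]
      apply Perm.Disjoint.commute
      intro x
      by_cases h : x = a 1 ∨ x = a 3
      · right
        rcases h with rfl | rfl
        · exact swap_apply_of_ne_of_ne (hne 1 0 (by omega) (by omega) (by omega)) (hne 1 2 (by omega) (by omega) (by omega))
        · exact swap_apply_of_ne_of_ne (hne 3 0 (by omega) (by omega) (by omega)) (hne 3 2 (by omega) (by omega) (by omega))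
      · push_neg at h
        left
        exact swap_apply_of_ne_of_ne h.1 h.2
    rw [mul_inv_eq_iff_eq_mul] at hconj
    exact hconj.symm
  have hc2 : c ^ 2 ^ 1 = 1 := by
    rw [hc, pow_one, Commute.mul_pow, pow_two, pow_two, swap_mul_self, swap_mul_self, one_mul]
    apply Perm.Disjoint.commute
    intro x
    by_cases h : x = a 0 ∨ x = a 2
    · right
      rcases h with rfl | rfl
      · exact swap_apply_of_ne_of_ne (hne 0 1 (by omega) (by omega) (by omega)) (hne 0 3 (by omega) (by omega) (by omega))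
      · exact swap_apply_of_ne_of_ne (hne 2 1 (by omega) (by omega) (by omega)) (hne 2 3 (by omega) (by omega) (by omega))
    · push_neg at h
      left
      exact swap_apply_of_ne_of_ne h.1 h.2
  have hC : IsPGroup 2 (Subgroup.zpowers c) := by
    intro x
    refine ⟨1, ?_⟩
    obtain ⟨y, k, rfl⟩ := x
    apply Subtype.ext
    simp only [SubgroupClass.coe_pow, OneMemClass.coe_one]
    rw [← zpow_natCast, ← _root_.zpow_mul, mul_comm, _root_.zpow_mul, zpow_natCast, hc2, one_zpow]
  have hnorm : Subgroup.zpowers c ≤ Subgroup.normalizer (pairGroup n : Set (Perm (Fin n))) := by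
    rw [Subgroup.zpowers_le, Subgroup.mem_normalizer_iff]
    have key : ∀ g ∈ pairCentralizer n, ∀ σ ∈ pairGroup n, g * σ * g⁻¹ ∈ pairGroup n := by
      intro g hg σ hσ x
      rcases hσ (g⁻¹ x) with h | h
      · left; rw [Perm.mul_apply, Perm.mul_apply, h, ← Perm.mul_apply, mul_inv_cancel, Perm.one_apply]
      · right
        rw [Perm.mul_apply, Perm.mul_apply, h, mem_pairCentralizer.1 hg, ← Perm.mul_apply g, mul_inv_cancel,
          Perm.one_apply]
    intro σ
    refine ⟨key c hcW σ, fun h => ?_⟩
    have := key c⁻¹ (Subgroup.inv_mem _ hcW) _ h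
    simpa [mul_assoc] using this
  obtain ⟨Q, hQ⟩ := (IsPGroup.to_sup_of_normal_left' (isPGroup_pairGroup n) hC hnorm).exists_le_sylow
  have hdE : d ∈ pairGroup n := by
    refine (pairGroup n).mul_mem ?_ ?_
    · have := swap_mem_pairGroup n (a 0)
      rwa [hp 0 (by omega)] at this
    · have := swap_mem_pairGroup n (a 4)
      rwa [hp 4 (by omega)] at this
  refine ⟨Q, c, d, hQ ((le_sup_right : Subgroup.zpowers c ≤ _) (Subgroup.mem_zpowers c)), hQ ((le_sup_left : pairGroup n ≤ _) hdE), ?_, ?_, ?_⟩
  · rw [Perm.mem_alternatingGroup, hc, map_mul, Perm.sign_swap (hne 0 2 (by omega) (by omega) (by omega)),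
      Perm.sign_swap (hne 1 3 (by omega) (by omega) (by omega))]
    simp
  · rw [Perm.mem_alternatingGroup, hd, map_mul, Perm.sign_swap (hne 0 1 (by omega) (by omega) (by omega)),
      Perm.sign_swap (hne 4 5 (by omega) (by omega) (by omega))]
    simp
  · intro e
    have := congrArg (fun f : Perm (Fin n) => f (a 2)) e
    simp only [hc, hd, Perm.mul_apply] at this
    simp only [swap_apply_def, hne 2 4 (by omega) (by omega) (by omega), hne 2 5 (by omega) (by omega) (by omega),
      hne 2 0 (by omega) (by omega) (by omega), hne 2 1 (by omega) (by omega) (by omega),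
      hne 2 3 (by omega) (by omega) (by omega), hne 0 4 (by omega) (by omega) (by omega),
      hne 0 5 (by omega) (by omega) (by omega), hne 0 1 (by omega) (by omega) (by omega),
      hne 0 3 (by omega) (by omega) (by omega), if_false, if_true] at this

/-- A Sylow 2-subgroup of an alternating group of degree at least 6 is not commutative. -/
theorem sylow_alt_not_comm {n : ℕ} (hn : 6 ≤ n) (P : Sylow 2 (alternatingGroup (Fin n))) :
    ¬ IsMulCommutative (P : Subgroup (alternatingGroup (Fin n))) := by
  haveI : Fact (Nat.Prime 2) := ⟨Nat.prime_two⟩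
  intro hP
  obtain ⟨Q, c, d, hc, hd, hc', hd', hne⟩ := exists_noncomm hn
  obtain ⟨P₀, hP₀⟩ := (Q.2.comap_of_injective (alternatingGroup (Fin n)).subtype
    (Subgroup.subtype_injective _)).exists_le_sylow
  obtain ⟨g, hg⟩ := MulAction.exists_smul_eq (alternatingGroup (Fin n)) P P₀
  have hmem : ∀ x : alternatingGroup (Fin n), x ∈ (P₀ : Subgroup (alternatingGroup (Fin n))) →
      g⁻¹ * x * g ∈ (P : Subgroup (alternatingGroup (Fin n))) := by
    intro x hx
    rw [← hg, Sylow.coe_subgroup_smul, Subgroup.mem_pointwise_smul_iff_inv_smul_mem] at hx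
    simpa [MulAut.smul_def, MulAut.inv_def] using hx
  have h1 := hmem ⟨c, hc'⟩ (hP₀ hc)
  have h2 := hmem ⟨d, hd'⟩ (hP₀ hd)
  have h3 := congrArg Subtype.val (hP.is_comm.comm ⟨_, h1⟩ ⟨_, h2⟩)
  simp only [Subgroup.coe_mul] at h3
  have h4 : (⟨c, hc'⟩ : alternatingGroup (Fin n)) * ⟨d, hd'⟩ = ⟨d, hd'⟩ * ⟨c, hc'⟩ := by
    have := congrArg (fun x => g * x * g⁻¹) h3
    simpa [mul_assoc] using this
  exact hne (congrArg Subtype.val h4)

end Cfsg.Agent.SymSylow
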