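import Cfsg.Agent.SymSylow.Over

/-!
The maximal overgroups of a Sylow 2-subgroup in symmetric and alternating groups.
-/

set_option autoImplicit false

namespace Cfsg.Agent.SymSylow

open Equiv

theorem three_cycle_of_meet {n : ℕ} {σ τ : Perm (Fin n)} (hσ : ∀ x, σ (σ x) = x) (hτ : ∀ x, τ (τ x) = x) {v : Fin n}
    (hv : σ v ≠ v) (hv' : τ v ≠ v) (h : ∀ x, x ≠ v → σ x = x ∨ τ x = x) :
    (σ * τ * σ * τ).IsThreeCycle := by
  set u := σ v with hu
  set w := τ v with hw
  have hσu : σ u = v := hσ v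
  have hτw : τ w = v := hτ v
  have hτu : τ u = u := (h u hv).resolve_left (by rw [hσu]; exact hv.symm)
  have hσw : σ w = w := (h w hv').resolve_right (by rw [hτw]; exact hv'.symm)
  have huw : u ≠ w := fun e => hv (by rw [← hσu, e, hσw, ← e])
  have key : σ * τ * σ * τ = swap v w * swap v u := by
    apply Equiv.ext
    intro x
    simp only [Perm.mul_apply]
    rcases eq_or_ne x v with rfl | hxv
    · rw [← hw, hσw, hτw, ← hu, swap_apply_left, swap_apply_of_ne_of_ne hv huw]
    rcases eq_or_ne x u with rfl | hxu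
    · rw [hτu, hσu, ← hw, hσw, swap_apply_right, swap_apply_left]
    rcases eq_or_ne x w with rfl | hxw
    · rw [hτw, ← hu, hτu, hσu, swap_apply_of_ne_of_ne hv' (Ne.symm huw), swap_apply_right]
    rw [swap_apply_of_ne_of_ne hxv hxu, swap_apply_of_ne_of_ne hxv hxw]
    rcases h x hxv with hx | hx
    · by_cases hy : τ x = x
      · rw [hy, hx, hy, hx]
      · have h1 : σ (τ x) = τ x := (h (τ x) (fun e => hxw (by rw [← hτ x, e, ← hw]))).resolve_right
          (by rw [hτ x]; exact Ne.symm hy)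
        rw [h1, hτ, hx]
    · rw [hx]
      by_cases hy : σ x = x
      · rw [hy, hx, hy]
      · have h1 : τ (σ x) = σ x := (h (σ x) (fun e => hxu (by rw [← hσ x, e, ← hu]))).resolve_left
          (by rw [hσ x]; exact Ne.symm hy)
        rw [h1, hσ]
  rw [key]
  exact Perm.isThreeCycle_swap_mul_swap_same (Ne.symm hv') (Ne.symm hv) (Ne.symm huw)

theorem card_sylow_alt_five (P : Sylow 2 (alternatingGroup (Fin 5))) :
    Nat.card (P : Subgroup (alternatingGroup (Fin 5))) = 4 := by
  haveI : Fact (Nat.Prime 2) := ⟨Nat.prime_two⟩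
  have hcard : Nat.card (alternatingGroup (Fin 5)) = 60 := by
    rw [nat_card_alternatingGroup, Nat.card_fin]; rfl
  rw [P.card_eq_multiplicity, hcard, show (60 : ℕ) = 2 ^ 2 * 15 by norm_num,
    Nat.factorization_mul (by norm_num) (by norm_num), Finsupp.add_apply,
    Nat.Prime.factorization_pow Nat.prime_two, Finsupp.single_eq_same,
    Nat.factorization_eq_zero_of_not_dvd (by norm_num : ¬ 2 ∣ 15), add_zero]
  norm_num

/-- The Sylow 2-subgroup of the alternating group cut out by one of the symmetric group. -/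
theorem exists_sylow_alt {n : ℕ} (Q : Sylow 2 (Perm (Fin n))) :
    ∃ P : Sylow 2 (alternatingGroup (Fin n)), (P : Subgroup (alternatingGroup (Fin n))) =
      (Q : Subgroup (Perm (Fin n))).subgroupOf (alternatingGroup (Fin n)) := by
  haveI : Fact (Nat.Prime 2) := ⟨Nat.prime_two⟩
  obtain ⟨P, hP⟩ := (Q.2.comap_of_injective (alternatingGroup (Fin n)).subtype
    (Subgroup.subtype_injective _)).exists_le_sylow
  refine ⟨P, (Subgroup.eq_of_le_of_card_ge hP ?_).symm⟩
  obtain ⟨Q', hQ'⟩ := exists_map_sylow_alt P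
  obtain ⟨h, rfl⟩ := MulAction.exists_smul_eq (Perm (Fin n)) Q Q'
  have h1 : ((h • Q : Sylow 2 (Perm (Fin n))) : Subgroup (Perm (Fin n))) ⊓ alternatingGroup (Fin n) =
      ((Q : Subgroup (Perm (Fin n))) ⊓ alternatingGroup (Fin n)).map (MulAut.conj h).toMonoidHom := by
    rw [Subgroup.map_inf _ _ _ (MulAut.conj h).injective]
    congr 1
    ext x
    constructor
    · intro hx
      refine ⟨h⁻¹ * x * h, ?_, by simp [mul_assoc]⟩
      show h⁻¹ * x * h ∈ alternatingGroup (Fin n)
      simpa [mul_assoc] using (Subgroup.Normal.conj_mem inferInstance x hx h⁻¹)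
    · rintro ⟨y, hy, rfl⟩
      exact Subgroup.Normal.conj_mem inferInstance y hy h
  have h2 := congrArg (fun S : Subgroup (Perm (Fin n)) => Nat.card S) hQ'
  simp only [h1, Subgroup.card_map_of_injective (Subgroup.subtype_injective _)] at h2
  rw [h2, Subgroup.card_map_of_injective (show Function.Injective (MulAut.conj h).toMonoidHom from (MulAut.conj h).injective),
    ← Subgroup.subgroupOf_map_subtype, Subgroup.card_map_of_injective (Subgroup.subtype_injective _)]
  exact le_rfl

theorem unique_coatom_transfer {G : Type*} [Group G] [Finite G] {p : ℕ} [Fact p.Prime] (P P' : Sylow p G)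
    (h : ∃! M : Subgroup G, IsCoatom M ∧ (P : Subgroup G) ≤ M) :
    ∃! M : Subgroup G, IsCoatom M ∧ (P' : Subgroup G) ≤ M := by
  obtain ⟨g, rfl⟩ := MulAction.exists_smul_eq G P P'
  set e := (MulAut.conj g).mapSubgroup with he
  have hP : ((g • P : Sylow p G) : Subgroup G) = e (P : Subgroup G) := by
    rw [Sylow.coe_subgroup_smul]; rfl
  obtain ⟨M, ⟨hM, hPM⟩, huniq⟩ := h
  refine ⟨e M, ⟨(e.isCoatom_iff M).2 hM, hP ▸ e.monotone hPM⟩, fun N ⟨hN, hPN⟩ => ?_⟩
  have := huniq (e.symm N) ⟨(e.symm.isCoatom_iff N).2 hN, by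
    rw [← e.le_iff_le, e.apply_symm_apply, ← hP]; exact hPN⟩
  rw [← this, e.apply_symm_apply]

section Forward

variable {n : ℕ} {Q : Sylow 2 (Perm (Fin n))}

theorem transitive_on_moved {k : ℕ} (hk : 2 ≤ k) (hn : n = 2 ^ k + 1)
    (hE : pairGroup n ≤ (Q : Subgroup (Perm (Fin n)))) (x y : Fin n) (hx : partner n x ≠ x) (hy : partner n y ≠ y) :
    ∃ q ∈ (Q : Subgroup (Perm (Fin n))), q ∈ alternatingGroup (Fin n) ∧ q x = y := by
  classical
  haveI : Fact (Nat.Prime 2) := ⟨Nat.prime_two⟩
  have h4 : 4 ≤ 2 ^ k := le_trans (by norm_num) (Nat.pow_le_pow_right (show 2 > 0 by norm_num) hk)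
  let e : Fin (2 ^ k) ≃ {i : Fin n // i.val < 2 ^ k} :=
    { toFun := fun i => ⟨⟨i.val, by omega⟩, i.isLt⟩
      invFun := fun i => ⟨i.1.val, i.2⟩
      left_inv := fun i => rfl
      right_inv := fun i => rfl }
  set c : Perm (Fin n) := (finRotate (2 ^ k)).extendDomain e with hc
  have hcyc : c.IsCycle := (isCycle_finRotate_of_le (by omega)).extendDomain e
  have hcard : c.support.card = 2 ^ k := by
    rw [hc, Perm.card_support_extend_domain, support_finRotate_of_le (by omega), Finset.card_univ, Fintype.card_fin]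
  have hp : IsPGroup 2 (Subgroup.zpowers c) :=
    IsPGroup.of_card (n := k) (by rw [Nat.card_zpowers, hcyc.orderOf, hcard])
  obtain ⟨Q', hQ'⟩ := hp.exists_le_sylow
  obtain ⟨h, rfl⟩ := MulAction.exists_smul_eq (Perm (Fin n)) Q Q'
  set d := h⁻¹ * c * h with hd
  have hdQ : d ∈ (Q : Subgroup (Perm (Fin n))) := by
    have := hQ' (Subgroup.mem_zpowers c)
    rw [Sylow.coe_subgroup_smul, Subgroup.mem_pointwise_smul_iff_inv_smul_mem] at this
    simpa [MulAut.smul_def, MulAut.inv_def, hd, mul_assoc] using this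
  have hdcyc : d.IsCycle := by
    have := hcyc.conj (g := h⁻¹)
    simpa [hd] using this
  have hdcard : d.support.card = 2 ^ k := by
    rw [hd, ← hcard]
    have := Perm.card_support_conj (σ := h⁻¹) (τ := c)
    simpa using this
  have hsupp : ∀ z, partner n z ≠ z → z ∈ d.support := by
    intro z hz
    set f : Fin n := ⟨n - 1, by omega⟩ with hf'
    have hf : partner n f = f := (partner_eq_self_iff n f).2 (by
      have : 2 ∣ 2 ^ k := dvd_pow_self 2 (by omega)
      simp only [hf']; omega)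
    have hfd : f ∉ d.support := by rw [Perm.notMem_support]; exact fixed_fix hE hdQ hf
    have hsub : d.support ⊆ Finset.univ.erase f := fun w hw =>
      Finset.mem_erase.2 ⟨fun e => hfd (e ▸ hw), Finset.mem_univ _⟩
    rw [Finset.eq_of_subset_of_card_le hsub (by
      rw [Finset.card_erase_of_mem (Finset.mem_univ _), Finset.card_univ, Fintype.card_fin, hdcard]; omega)]
    exact Finset.mem_erase.2 ⟨fun e => hz (by rw [e]; exact hf), Finset.mem_univ _⟩
  obtain ⟨i, hi⟩ := hdcyc.exists_zpow_eq (Perm.mem_support.1 (hsupp x hx)) (Perm.mem_support.1 (hsupp y hy))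
  rcases Int.units_eq_one_or (Perm.sign (d ^ i)) with hs | hs
  · exact ⟨d ^ i, zpow_mem hdQ i, hs, hi⟩
  · obtain ⟨a, ha, hay⟩ : ∃ a : Fin n, partner n a ≠ a ∧ (y ≠ a ∧ y ≠ partner n a) := by
      set a : Fin n := ⟨if y.val / 2 = 0 then 2 else 0, by split_ifs <;> omega⟩ with ha
      refine ⟨a, ?_, ?_, ?_⟩
      · rw [Ne, partner_eq_self_iff]; simp only [ha]; split_ifs <;> omega
      · rw [Ne, Fin.ext_iff]; simp only [ha]; split_ifs <;> omega
      · rw [Ne, Fin.ext_iff, partner_val]; simp only [ha]; split_ifs <;> omega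
    refine ⟨swap a (partner n a) * d ^ i, (Q : Subgroup (Perm (Fin n))).mul_mem (hE (swap_mem_pairGroup n a)) (zpow_mem hdQ i), ?_, ?_⟩
    · rw [Perm.mem_alternatingGroup, map_mul, hs, Perm.sign_swap (Ne.symm ha)]; simp
    · rw [Perm.mul_apply, hi, swap_apply_of_ne_of_ne hay.1 hay.2]

/-- For degree one more than a power of two, a subgroup containing the even part of a Sylow 2-subgroup and an
even element moving the fixed point contains the alternating group. -/
theorem alt_le_of_moves {k : ℕ} (hk : 2 ≤ k) (hn : n = 2 ^ k + 1)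
    (hE : pairGroup n ≤ (Q : Subgroup (Perm (Fin n)))) {M : Subgroup (Perm (Fin n))}
    (hM : (Q : Subgroup (Perm (Fin n))) ⊓ alternatingGroup (Fin n) ≤ M) {f : Fin n} (hf : partner n f = f)
    {g : Perm (Fin n)} (hg : g ∈ M) (hgA : g ∈ alternatingGroup (Fin n)) (hgf : g f ≠ f) :
    alternatingGroup (Fin n) ≤ M := by
  classical
  haveI : Fact (Nat.Prime 2) := ⟨Nat.prime_two⟩
  suffices h : alternatingGroup (Fin n) ≤ M ⊓ alternatingGroup (Fin n) from h.trans inf_le_left
  set L := M ⊓ alternatingGroup (Fin n) with hL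
  have hgL : g ∈ L := ⟨hg, hgA⟩
  have hQL : (Q : Subgroup (Perm (Fin n))) ⊓ alternatingGroup (Fin n) ≤ L := le_inf hM inf_le_right
  have hmoved : ∀ x, x ≠ f → partner n x ≠ x := fun x hx e => hx (fixed_unique e hf)
  have hto : ∀ x, ∃ l ∈ L, l f = x := by
    intro x
    by_cases hx : x = f
    · exact ⟨1, L.one_mem, hx.symm⟩
    · obtain ⟨q, hq, hqA, hqx⟩ := transitive_on_moved hk hn hE (g f) x (hmoved _ hgf) (hmoved x hx)
      exact ⟨q * g, L.mul_mem (hQL ⟨hq, hqA⟩) hgL, hqx⟩
  have hfixQ : ∀ q ∈ (Q : Subgroup (Perm (Fin n))), q f = f := fun q hq => fixed_fix hE hq hf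
  have h2 : MulAction.IsMultiplyPretransitive L (Fin n) 2 := by
    rw [MulAction.is_two_pretransitive_iff]
    intro a b c d hab hcd
    obtain ⟨l, hl, hla⟩ := hto a
    obtain ⟨m, hm, hmc⟩ := hto c
    have hb : l⁻¹ b ≠ f := fun e => hab (by rw [← hla, ← e, ← Perm.mul_apply, mul_inv_cancel, Perm.one_apply])
    have hd : m⁻¹ d ≠ f := fun e => hcd (by rw [← hmc, ← e, ← Perm.mul_apply, mul_inv_cancel, Perm.one_apply])
    obtain ⟨q, hq, hqA, hqbd⟩ := transitive_on_moved hk hn hE (l⁻¹ b) (m⁻¹ d) (hmoved _ hb) (hmoved _ hd)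
    refine ⟨⟨m * q * l⁻¹, L.mul_mem (L.mul_mem hm (hQL ⟨hq, hqA⟩)) (L.inv_mem hl)⟩, ?_, ?_⟩
    · show (m * q * l⁻¹) a = c
      have : l⁻¹ a = f := by rw [← hla, ← Perm.mul_apply, inv_mul_cancel, Perm.one_apply]
      rw [Perm.mul_apply, Perm.mul_apply, this, hfixQ q hq, hmc]
    · show (m * q * l⁻¹) b = d
      rw [Perm.mul_apply, Perm.mul_apply, hqbd, ← Perm.mul_apply m, mul_inv_cancel, Perm.one_apply]
  by_cases h5 : k = 2
  · subst h5
    obtain rfl : n = 5 := by omega
    set L' := L.subgroupOf (alternatingGroup (Fin 5)) with hL'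
    have hLA : L ≤ alternatingGroup (Fin 5) := inf_le_right
    have h4 : 4 ∣ Nat.card L' := by
      obtain ⟨P, hP⟩ := exists_sylow_alt Q
      rw [← card_sylow_alt_five P]
      refine Subgroup.card_dvd_of_le ?_
      rw [hP]
      exact fun x hx => hQL ⟨hx, x.2⟩
    haveI : MulAction.IsPretransitive L (Fin 5) := MulAction.isPretransitive_of_is_two_pretransitive
    have h5 : 5 ∣ Nat.card L' := by
      rw [Nat.card_congr (Subgroup.subgroupOfEquivOfLe hLA).toEquiv]
      have h1 := MulAction.index_stabilizer_of_transitive L (0 : Fin 5)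
      have h2 := Subgroup.index_dvd_card (MulAction.stabilizer L (0 : Fin 5))
      rwa [h1, Nat.card_fin] at h2
    have hcard : Nat.card (alternatingGroup (Fin 5)) = 60 := by
      rw [nat_card_alternatingGroup, Nat.card_fin]; rfl
    have htop : L' = ⊤ := by
      obtain ⟨r, hr⟩ := Nat.Coprime.mul_dvd_of_dvd_of_dvd (by norm_num : Nat.Coprime 4 5) h4 h5
      have hmul := L'.index_mul_card
      rw [hcard, hr] at hmul
      have hi3 : L'.index ∣ 3 := ⟨r, by linarith⟩
      rcases (Nat.dvd_prime Nat.prime_three).1 hi3 with h | h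
      · exact Subgroup.index_eq_one.1 h
      · exfalso
        haveI : IsSimpleGroup (alternatingGroup (Fin 5)) := alternatingGroup.isSimpleGroup (by simp)
        rcases (inferInstance : L'.normalCore.Normal).eq_bot_or_eq_top with e | e
        · have h1 := Subgroup.card_dvd_of_injective (MulAction.toPermHom (alternatingGroup (Fin 5)) (alternatingGroup (Fin 5) ⧸ L'))
            (by rw [← MonoidHom.ker_eq_bot_iff, ← Subgroup.normalCore_eq_ker, e])
          rw [Nat.card_perm, ← Subgroup.index, h, hcard] at h1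
          norm_num [Nat.factorial] at h1
        · have := L'.normalCore_le
          rw [e, top_le_iff] at this
          rw [this, Subgroup.index_top] at h
          omega
    intro x hx
    exact (show (⟨x, hx⟩ : alternatingGroup (Fin 5)) ∈ L' from htop ▸ Subgroup.mem_top _)
  have hn9 : 9 ≤ n := by
    have : 2 ^ 3 ≤ 2 ^ k := Nat.pow_le_pow_right (by norm_num) (by omega)
    omega
  set p' := g * partner n * g⁻¹ with hp'
  have hp'p : ∀ x, p' (p' x) = x := fun x => by
    simp only [hp', Perm.mul_apply]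
    rw [show g⁻¹ (g (partner n (g⁻¹ x))) = partner n (g⁻¹ x) by simp, partner_partner]
    simp
  have hp'g : ∀ x, p' (g x) = g (partner n x) := fun x => by simp [hp']
  have hf' : p' (g f) = g f := by rw [hp'g, hf]
  set f' := g f with hf'def
  have hp'fix : ∀ x, p' x = x → x = f' := fun x hx => by
    obtain ⟨z, rfl⟩ : ∃ z, g z = x := ⟨g⁻¹ x, by simp⟩
    rw [hp'g] at hx
    rw [hf'def, fixed_unique (g.injective hx) hf]
  set v := partner n f' with hv
  have hvf' : v ≠ f' := hmoved f' hgf
  set v₂ := p' v with hv₂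
  have hv₂v : v₂ ≠ v := fun e => hvf' (hp'fix v e)
  have hv₂f' : v₂ ≠ f' := fun e => hvf' (by rw [← hp'p v, ← hv₂, e, hf'])
  have hbig : ∀ (z : Fin n) (s : Finset (Fin n)), s.card ≤ 6 → ∃ a, a ≠ z ∧ a ∉ s := by
    intro z s hs
    obtain ⟨a, ha⟩ : ∃ a, a ∉ insert z s := by
      by_contra h
      push_neg at h
      have h1 : (Finset.univ : Finset (Fin n)) ⊆ insert z s := fun a _ => h a
      have h2 := Finset.card_le_card h1
      have h3 := Finset.card_insert_le z s
      rw [Finset.card_univ, Fintype.card_fin] at h2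
      omega
    exact ⟨a, fun e => ha (by rw [e]; exact Finset.mem_insert_self _ _), fun h => ha (Finset.mem_insert_of_mem h)⟩
  obtain ⟨a, haf, ha⟩ := hbig f {v, f', v₂, partner n v₂} (le_trans Finset.card_le_four (by norm_num))
  simp only [Finset.mem_insert, Finset.mem_singleton, not_or] at ha
  obtain ⟨hav, haf', hav₂, hapv₂⟩ := ha
  obtain ⟨b, hbf', hb⟩ := hbig f' {v, v₂, a, partner n a, p' a, p' (partner n a)} Finset.card_le_six
  simp only [Finset.mem_insert, Finset.mem_singleton, not_or] at hb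
  obtain ⟨hbv, hbv₂, hba, hbpa, hbp'a, hbp'pa⟩ := hb
  have hpa : partner n a ≠ a := hmoved a haf
  have hp'b : p' b ≠ b := fun e => hbf' (hp'fix b e)
  have hσL : swap v f' * swap a (partner n a) ∈ L := by
    refine hQL ⟨(Q : Subgroup (Perm (Fin n))).mul_mem (hE ?_) (hE (swap_mem_pairGroup n a)), ?_⟩
    · have := swap_mem_pairGroup n f'
      rwa [← hv, swap_comm] at this
    · show _ ∈ alternatingGroup (Fin n)
      rw [Perm.mem_alternatingGroup, map_mul, Perm.sign_swap hvf', Perm.sign_swap (Ne.symm hpa)]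
      simp
  obtain ⟨v₀, hv₀⟩ : ∃ z, g z = v := ⟨g⁻¹ v, by simp⟩
  obtain ⟨b₀, hb₀⟩ : ∃ z, g z = b := ⟨g⁻¹ b, by simp⟩
  have hv₀p : g (partner n v₀) = v₂ := by rw [← hp'g, hv₀]
  have hb₀p : g (partner n b₀) = p' b := by rw [← hp'g, hb₀]
  have hτL : swap v v₂ * swap b (p' b) ∈ L := by
    have h1 : swap v₀ (partner n v₀) * swap b₀ (partner n b₀) ∈ L := by
      refine hQL ⟨(Q : Subgroup (Perm (Fin n))).mul_mem (hE (swap_mem_pairGroup n v₀)) (hE (swap_mem_pairGroup n b₀)), ?_⟩
      show _ ∈ alternatingGroup (Fin n)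
      rw [Perm.mem_alternatingGroup, map_mul, Perm.sign_swap (fun e => hv₂v (by rw [← hv₀p, ← e, hv₀])),
        Perm.sign_swap (fun e => hp'b (by rw [← hb₀p, ← e, hb₀]))]
      simp
    have e : g * (swap v₀ (partner n v₀) * swap b₀ (partner n b₀)) * g⁻¹ = swap v v₂ * swap b (p' b) := by
      have : g * (swap v₀ (partner n v₀) * swap b₀ (partner n b₀)) * g⁻¹ =
          (g * swap v₀ (partner n v₀) * g⁻¹) * (g * swap b₀ (partner n b₀) * g⁻¹) := by group
      rw [this, ← swap_apply_apply, ← swap_apply_apply, hv₀, hv₀p, hb₀, hb₀p]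
    rw [← e]
    exact L.mul_mem (L.mul_mem hgL h1) (L.inv_mem hgL)
  have hd1 : v ≠ partner n a := fun e => haf' (by rw [← partner_partner n a, ← e, hv, partner_partner])
  have hd1' : f' ≠ partner n a := fun e => hav (by rw [hv, e, partner_partner])
  have hd2 : v ≠ p' b := fun e => hbv₂ (by rw [hv₂, e, hp'p])
  have hd2' : v₂ ≠ p' b := fun e => hbv (by rw [← hp'p v, ← hv₂, e, hp'p])
  have hv₂pa : v₂ ≠ partner n a := fun e => hapv₂ (by rw [e, partner_partner])
  have haσ : ∀ x, (swap v f' * swap a (partner n a)) x ≠ x → x = v ∨ x = f' ∨ x = a ∨ x = partner n a := by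
    intro x hx
    by_contra h
    push_neg at h
    exact hx (by rw [Perm.mul_apply, swap_apply_of_ne_of_ne h.2.2.1 h.2.2.2, swap_apply_of_ne_of_ne h.1 h.2.1])
  have haτ : ∀ x, (swap v v₂ * swap b (p' b)) x ≠ x → x = v ∨ x = v₂ ∨ x = b ∨ x = p' b := by
    intro x hx
    by_contra h
    push_neg at h
    exact hx (by rw [Perm.mul_apply, swap_apply_of_ne_of_ne h.2.2.1 h.2.2.2, swap_apply_of_ne_of_ne h.1 h.2.1])
  have hinv : ∀ (p q r s : Fin n), p ≠ r → p ≠ s → q ≠ r → q ≠ s →
      ∀ x, (swap p q * swap r s) ((swap p q * swap r s) x) = x := by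
    intro p q r s h1 h2 h3 h4 x
    have hd : Perm.Disjoint (swap p q) (swap r s) := by
      intro z
      by_cases h : z = r ∨ z = s
      · left
        rcases h with rfl | rfl
        · exact swap_apply_of_ne_of_ne (Ne.symm h1) (Ne.symm h3)
        · exact swap_apply_of_ne_of_ne (Ne.symm h2) (Ne.symm h4)
      · push_neg at h
        right
        exact swap_apply_of_ne_of_ne h.1 h.2
    rw [← Perm.mul_apply, ← pow_two, hd.commute.mul_pow, pow_two, pow_two, swap_mul_self, swap_mul_self,
      one_mul, Perm.one_apply]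
  have h3 : (swap v f' * swap a (partner n a) * (swap v v₂ * swap b (p' b)) * (swap v f' * swap a (partner n a)) *
      (swap v v₂ * swap b (p' b))).IsThreeCycle := by
    refine three_cycle_of_meet (v := v) (hinv v f' a _ (Ne.symm hav) hd1 (Ne.symm haf') hd1')
      (hinv v v₂ b _ (Ne.symm hbv) hd2 (Ne.symm hbv₂) hd2') ?_ ?_ ?_
    · rw [Perm.mul_apply, swap_apply_of_ne_of_ne (Ne.symm hav) hd1, swap_apply_left]; exact hvf'.symm
    · rw [Perm.mul_apply, swap_apply_of_ne_of_ne (Ne.symm hbv) hd2, swap_apply_left]; exact hv₂v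
    · intro x hxv
      by_contra hx
      push_neg at hx
      rcases haσ x hx.1 with h | h | h | h
      · exact hxv h
      · rcases haτ x hx.2 with h' | h' | h' | h'
        · exact hxv h'
        · exact hv₂f' (h'.symm.trans h)
        · exact hbf' (h'.symm.trans h)
        · exact hbf' ((hp'p b).symm.trans ((congrArg p' (h'.symm.trans h)).trans hf'))
      · rcases haτ x hx.2 with h' | h' | h' | h'
        · exact hxv h'
        · exact hav₂ (h.symm.trans h')
        · exact hba (h'.symm.trans h)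
        · exact hbp'a ((hp'p b).symm.trans (congrArg p' (h'.symm.trans h)))
      · rcases haτ x hx.2 with h' | h' | h' | h'
        · exact hxv h'
        · exact hv₂pa (h'.symm.trans h)
        · exact hbpa (h'.symm.trans h)
        · exact hbp'pa ((hp'p b).symm.trans (congrArg p' (h'.symm.trans h)))
  exact Equiv.Perm.alternatingGroup_le_of_isPreprimitive_of_isThreeCycle_mem
    (MulAction.isPreprimitive_of_is_two_pretransitive h2) h3
    (L.mul_mem (L.mul_mem (L.mul_mem hσL hτL) hσL) hτL)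

end Forward

/-- A Sylow 2-subgroup of a symmetric or alternating group lies in a single maximal subgroup exactly when the
degree is one more than a power of two. -/
theorem unique_maximal_iff {n : ℕ} (hn : 5 ≤ n) (h6 : n ≠ 6) :
    (∀ R : Sylow 2 ↥(alternatingGroup (Fin n)), (∃! M : Subgroup ↥(alternatingGroup (Fin n)), IsCoatom M ∧ (R : Subgroup ↥(alternatingGroup (Fin n))) ≤ M) ↔ ∃ k : ℕ, 2 ≤ k ∧ n = 2 ^ k + 1) ∧
    (∀ R : Sylow 2 (Perm (Fin n)), (∃! M : Subgroup (Perm (Fin n)), IsCoatom M ∧ (R : Subgroup (Perm (Fin n))) ≤ M) ↔ ∃ k : ℕ, 2 ≤ k ∧ n = 2 ^ k + 1) := by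
  classical
  haveI : Fact (Nat.Prime 2) := ⟨Nat.prime_two⟩
  obtain ⟨Q, hE⟩ := (isPGroup_pairGroup n).exists_le_sylow
  obtain ⟨P, hP⟩ := exists_sylow_alt Q
  have ht : swap (⟨0, by omega⟩ : Fin n) (partner n ⟨0, by omega⟩) ∈ (Q : Subgroup (Perm (Fin n))) :=
    hE (swap_mem_pairGroup n _)
  set t : Perm (Fin n) := swap (⟨0, by omega⟩ : Fin n) (partner n ⟨0, by omega⟩) with htdef
  have hts : Perm.sign t = -1 := Perm.sign_swap (fun e => by
    have := (partner_eq_self_iff n _).1 e.symm; simp only at this; omega)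
  have htop : ∀ M : Subgroup (Perm (Fin n)), t ∈ M → alternatingGroup (Fin n) ≤ M → M = ⊤ := by
    intro M htM hAM
    rw [eq_top_iff]
    intro σ _
    rcases Int.units_eq_one_or (Perm.sign σ) with h | h
    · exact hAM h
    · have h2 : σ * t ∈ M := hAM (by rw [Perm.mem_alternatingGroup, map_mul, h, hts]; simp)
      simpa using M.mul_mem h2 (M.inv_mem htM)
  constructor
  · intro R
    refine Iff.trans ⟨unique_coatom_transfer R P, unique_coatom_transfer P R⟩ ?_
    constructor
    · rintro ⟨M, ⟨hM, hPM⟩, huniq⟩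
      by_contra hnk
      have hn7 : 7 ≤ n := by
        rcases (show n = 5 ∨ 7 ≤ n by omega) with h | h
        · exact absurd ⟨2, le_rfl, h⟩ hnk
        · exact h
      obtain ⟨U, V, hU, hV, hAU, hAV, hUV⟩ := exists_two_overgroups hn7 hnk hE
      have hle : ∀ W : Subgroup (Perm (Fin n)), (Q : Subgroup (Perm (Fin n))) ≤ W → ¬ alternatingGroup (Fin n) ≤ W →
          W.subgroupOf (alternatingGroup (Fin n)) ≤ M := by
        intro W hW hAW
        rcases eq_top_or_exists_le_coatom (W.subgroupOf (alternatingGroup (Fin n))) with h | ⟨N, hN, hWN⟩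
        · exact absurd (Subgroup.subgroupOf_eq_top.1 h) hAW
        · have : N = M := huniq N ⟨hN, le_trans (hP ▸ Subgroup.comap_mono hW) hWN⟩
          exact this ▸ hWN
      refine hM.1 ((Subgroup.eq_top_iff' M).2 fun x => ?_)
      have h1 : (U ⊓ alternatingGroup (Fin n)) ⊔ (V ⊓ alternatingGroup (Fin n)) ≤
          M.map (alternatingGroup (Fin n)).subtype := by
        refine sup_le ?_ ?_
        · rw [← Subgroup.subgroupOf_map_subtype]; exact Subgroup.map_mono (hle U hU hAU)
        · rw [← Subgroup.subgroupOf_map_subtype]; exact Subgroup.map_mono (hle V hV hAV)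
      obtain ⟨y, hy, hyx⟩ := h1 (hUV x.2)
      rwa [← Subtype.ext hyx]
    · rintro ⟨k, hk, hnk⟩
      set f : Fin n := ⟨n - 1, by omega⟩ with hfdef
      have hf : partner n f = f := (partner_eq_self_iff n f).2 (by
        have : 2 ∣ 2 ^ k := dvd_pow_self 2 (by omega)
        simp only [hfdef]; omega)
      set T := (MulAction.stabilizer (Perm (Fin n)) f).subgroupOf (alternatingGroup (Fin n)) with hT
      have hPT : (P : Subgroup (alternatingGroup (Fin n))) ≤ T := by
        rw [hP]; exact fun x hx => fixed_fix hE hx hf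
      have hnottop : T ≠ ⊤ := by
        rw [hT, Ne, Subgroup.subgroupOf_eq_top]
        exact not_alt_le_stabilizer (a := ⟨0, by omega⟩) (b := ⟨1, by omega⟩) (by simp [Fin.ext_iff])
          (by simp [hfdef, Fin.ext_iff]; omega) (by simp [hfdef, Fin.ext_iff]; omega)
      have hin : ∀ N : Subgroup (alternatingGroup (Fin n)), N ≠ ⊤ → (P : Subgroup (alternatingGroup (Fin n))) ≤ N →
          N ≤ T := by
        intro N hN hPN x hx
        by_contra hxf
        refine hN ((Subgroup.eq_top_iff' N).2 fun y => ?_)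
        have h1 : alternatingGroup (Fin n) ≤ N.map (alternatingGroup (Fin n)).subtype := by
          refine alt_le_of_moves hk hnk hE ?_ hf (Subgroup.mem_map_of_mem _ hx) x.2 hxf
          rw [← Subgroup.subgroupOf_map_subtype, ← hP]
          exact Subgroup.map_mono hPN
        obtain ⟨z, hz, hzy⟩ := h1 y.2
        rwa [← Subtype.ext hzy]
      obtain ⟨N, hN, hTN⟩ := (eq_top_or_exists_le_coatom T).resolve_left hnottop
      refine ⟨N, ⟨hN, hPT.trans hTN⟩, fun M ⟨hM, hPM⟩ => ?_⟩
      have hMN : M ≤ N := (hin M hM.1 hPM).trans hTN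
      exact le_antisymm hMN (hM.le_iff.1 hMN |>.resolve_left hN.1).le
  · intro R
    refine Iff.trans ⟨unique_coatom_transfer R Q, unique_coatom_transfer Q R⟩ ?_
    constructor
    · rintro ⟨M, ⟨hM, hQM⟩, huniq⟩
      by_contra hnk
      have hn7 : 7 ≤ n := by
        rcases (show n = 5 ∨ 7 ≤ n by omega) with h | h
        · exact absurd ⟨2, le_rfl, h⟩ hnk
        · exact h
      obtain ⟨U, V, hU, hV, hAU, hAV, hUV⟩ := exists_two_overgroups hn7 hnk hE
      have hle : ∀ W : Subgroup (Perm (Fin n)), (Q : Subgroup (Perm (Fin n))) ≤ W → ¬ alternatingGroup (Fin n) ≤ W →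
          W ≤ M := by
        intro W hW hAW
        rcases eq_top_or_exists_le_coatom W with h | ⟨N, hN, hWN⟩
        · exact absurd (h ▸ le_top) hAW
        · have : N = M := huniq N ⟨hN, hW.trans hWN⟩
          exact this ▸ hWN
      exact hM.1 (htop M (hQM ht) (hUV.trans (sup_le (inf_le_left.trans (hle U hU hAU)) (inf_le_left.trans (hle V hV hAV)))))
    · rintro ⟨k, hk, hnk⟩
      set f : Fin n := ⟨n - 1, by omega⟩ with hfdef
      have hf : partner n f = f := (partner_eq_self_iff n f).2 (by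
        have : 2 ∣ 2 ^ k := dvd_pow_self 2 (by omega)
        simp only [hfdef]; omega)
      set T := MulAction.stabilizer (Perm (Fin n)) f with hT
      have hQT : (Q : Subgroup (Perm (Fin n))) ≤ T := fun x hx => fixed_fix hE hx hf
      have hnottop : T ≠ ⊤ := fun e => not_alt_le_stabilizer (f := f) (a := ⟨0, by omega⟩) (b := ⟨1, by omega⟩)
        (by simp [Fin.ext_iff]) (by simp [hfdef, Fin.ext_iff]; omega) (by simp [hfdef, Fin.ext_iff]; omega)
        (by rw [← hT, e]; exact le_top)
      have hin : ∀ N : Subgroup (Perm (Fin n)), N ≠ ⊤ → (Q : Subgroup (Perm (Fin n))) ≤ N → N ≤ T := by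
        intro N hN hQN x hx
        by_contra hxf
        refine hN (htop N (hQN ht) ?_)
        obtain ⟨x', hx', hxA, hxf'⟩ : ∃ x' ∈ N, x' ∈ alternatingGroup (Fin n) ∧ x' f ≠ f := by
          rcases Int.units_eq_one_or (Perm.sign x) with h | h
          · exact ⟨x, hx, h, hxf⟩
          · refine ⟨x * t, N.mul_mem hx (hQN ht), by rw [Perm.mem_alternatingGroup, map_mul, h, hts]; simp, ?_⟩
            rw [Perm.mul_apply, fixed_fix hE ht hf]
            exact hxf
        exact alt_le_of_moves hk hnk hE (inf_le_left.trans hQN) hf hx' hxA hxf'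
      obtain ⟨N, hN, hTN⟩ := (eq_top_or_exists_le_coatom T).resolve_left hnottop
      refine ⟨N, ⟨hN, hQT.trans hTN⟩, fun M ⟨hM, hQM⟩ => ?_⟩
      have hMN : M ≤ N := (hin M hM.1 hQM).trans hTN
      exact le_antisymm hMN (hM.le_iff.1 hMN |>.resolve_left hN.1).le

end Cfsg.Agent.SymSylow
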