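import Mathlib

/-!
Sylow 2-subgroups of the symmetric and alternating groups: they preserve a pairing of the points, they are
self-normalising in the symmetric group, and for degree at least 6 so are those of the alternating group.
-/

set_option autoImplicit false

namespace Cfsg.Agent.SymSylow

open Equiv

/-- The standard pairing on naturals below `n`. -/
def pval (n v : ℕ) : ℕ := if v + 1 < n ∧ v % 2 = 0 then v + 1 else if v % 2 = 1 then v - 1 else v

theorem pval_lt {n v : ℕ} (h : v < n) : pval n v < n := by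
  unfold pval
  split_ifs <;> omega

theorem pval_pval {n v : ℕ} (h : v < n) : pval n (pval n v) = v := by
  unfold pval
  split_ifs <;> omega

/-- The standard pairing `0↔1, 2↔3, …`; the last point is fixed when `n` is odd. -/
def partner (n : ℕ) : Perm (Fin n) :=
  Function.Involutive.toPerm (fun x => ⟨pval n x.val, pval_lt x.isLt⟩) (fun x => Fin.ext (pval_pval x.isLt))

theorem partner_val (n : ℕ) (x : Fin n) :
    (partner n x).val =
      if x.val + 1 < n ∧ x.val % 2 = 0 then x.val + 1 else if x.val % 2 = 1 then x.val - 1 else x.val := rfl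

theorem partner_div {n : ℕ} (x : Fin n) : (partner n x).val / 2 = x.val / 2 := by
  rw [partner_val]
  split_ifs <;> omega

theorem partner_mod {n : ℕ} (x : Fin n) (h : x.val < 2 * (n / 2)) :
    (partner n x).val % 2 = 1 - x.val % 2 := by
  rw [partner_val]
  split_ifs <;> omega

theorem partner_partner (n : ℕ) (x : Fin n) : partner n (partner n x) = x := by
  apply Fin.ext
  rw [partner_val, partner_val]
  split_ifs <;> omega

theorem partner_eq_self_iff (n : ℕ) (x : Fin n) : partner n x = x ↔ 2 * (n / 2) ≤ x.val := by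
  rw [Fin.ext_iff, partner_val]
  split_ifs <;> omega

theorem pair_eq (n : ℕ) (x y : Fin n) (hx : x.val < 2 * (n / 2)) (hy : y.val < 2 * (n / 2))
    (h : x.val / 2 = y.val / 2) : y = x ∨ y = partner n x := by
  simp only [Fin.ext_iff, partner_val]
  split_ifs <;> omega

/-- Permutations moving each point at most to its partner. -/
def pairGroup (n : ℕ) : Subgroup (Perm (Fin n)) where
  carrier := {σ | ∀ x, σ x = x ∨ σ x = partner n x}
  one_mem' := fun x => Or.inl rfl
  mul_mem' := fun {σ τ} hσ hτ x => by
    rcases hτ x with h | h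
    · rw [Perm.mul_apply, h]; exact hσ x
    · rw [Perm.mul_apply, h]
      rcases hσ (partner n x) with h' | h'
      · exact Or.inr h'
      · exact Or.inl (by rw [h', partner_partner])
  inv_mem' := fun {σ} hσ x => by
    rcases hσ (σ⁻¹ x) with h | h
    · left
      rw [← Perm.mul_apply, mul_inv_cancel, Perm.one_apply] at h
      exact h.symm
    · right
      rw [← Perm.mul_apply, mul_inv_cancel, Perm.one_apply] at h
      have := congrArg (partner n) h
      rw [partner_partner] at this
      exact this.symm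

theorem pairGroup_sq (n : ℕ) (σ : Perm (Fin n)) (hσ : σ ∈ pairGroup n) : σ * σ = 1 := by
  apply Equiv.ext
  intro x
  rw [Perm.mul_apply, Perm.one_apply]
  rcases hσ x with h | h
  · rw [h, h]
  · rcases hσ (σ x) with h' | h'
    · have := σ.injective h'
      rw [this, this]
    · rw [h', h, partner_partner]

theorem isPGroup_pairGroup (n : ℕ) : IsPGroup 2 (pairGroup n) := fun σ =>
  ⟨1, by rw [pow_one, pow_two]; exact Subtype.ext (pairGroup_sq n σ σ.2)⟩

theorem swap_mem_pairGroup (n : ℕ) (x : Fin n) : swap x (partner n x) ∈ pairGroup n := by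
  intro y
  rcases eq_or_ne y x with rfl | h1
  · right; rw [swap_apply_left]
  · rcases eq_or_ne y (partner n x) with rfl | h2
    · right; rw [swap_apply_right, partner_partner]
    · left; rw [swap_apply_of_ne_of_ne h1 h2]

theorem swap_unique {n : ℕ} {Q : Subgroup (Perm (Fin n))} (hQ : IsPGroup 2 Q) {a b c : Fin n}
    (hab : a ≠ b) (hac : a ≠ c) (h1 : swap a b ∈ Q) (h2 : swap a c ∈ Q) : b = c := by
  by_contra hbc
  have h3 : (swap a b * swap a c).IsThreeCycle := Perm.isThreeCycle_swap_mul_swap_same hab hac hbc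
  obtain ⟨k, hk⟩ := hQ ⟨_, Q.mul_mem h1 h2⟩
  have hk' : (swap a b * swap a c) ^ 2 ^ k = 1 := congrArg Subtype.val hk
  have := orderOf_dvd_of_pow_eq_one hk'
  rw [h3.orderOf] at this
  have := Nat.prime_three.dvd_of_dvd_pow this
  omega

section Fix

variable {n : ℕ} {Q : Subgroup (Perm (Fin n))}

/-- `g` normalising a 2-group that contains the pair transpositions preserves the pairing. -/
theorem commute_of_normalizes (hQ : IsPGroup 2 Q) (hE : pairGroup n ≤ Q) (g : Perm (Fin n))
    (hg : g ∈ Subgroup.normalizer (Q : Set (Perm (Fin n)))) (x : Fin n) :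
    g (partner n x) = partner n (g x) := by
  have key : ∀ x, partner n x ≠ x → g (partner n x) = partner n (g x) := by
    intro x hx
    have h1 : swap (g x) (g (partner n x)) ∈ Q := by
      rw [swap_apply_apply]
      exact (Subgroup.mem_normalizer_iff.1 hg _).1 (hE (swap_mem_pairGroup n x))
    have hne : g x ≠ g (partner n x) := fun e => hx (g.injective e).symm
    by_cases hy : partner n (g x) = g x
    · exfalso
      set y := g (partner n x) with hy'
      have hyy : partner n y ≠ y := fun e => by
        have a := (partner_eq_self_iff n y).1 e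
        have b := (partner_eq_self_iff n (g x)).1 hy
        exact hne (Fin.ext (by omega))
      have h2 := hE (swap_mem_pairGroup n y)
      rw [swap_comm] at h1
      have := swap_unique hQ hne.symm hyy.symm h1 h2
      exact hne ((congrArg (partner n) this |>.trans (partner_partner n y)) ▸ hy).symm
    · exact swap_unique hQ hne (Ne.symm hy) h1 (hE (swap_mem_pairGroup n (g x)))
  by_cases hx : partner n x = x
  · rw [hx]
    by_contra h
    have hb : ∃ z, g z = partner n (g x) := ⟨g⁻¹ (partner n (g x)), by simp⟩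
    obtain ⟨z, hz⟩ := hb
    by_cases hzf : partner n z = z
    · have a := (partner_eq_self_iff n x).1 hx
      have b := (partner_eq_self_iff n z).1 hzf
      have : x = z := Fin.ext (by omega)
      exact h (this ▸ hz)
    · have h2 := key z hzf
      rw [hz, partner_partner] at h2
      have h3 := g.injective h2
      exact hzf (by rw [h3]; have := congrArg (partner n) h3; rw [partner_partner, hx] at this; exact this.symm)
  · exact key x hx

theorem mem_normalizer_self {g : Perm (Fin n)} (hg : g ∈ Q) : g ∈ Subgroup.normalizer (Q : Set (Perm (Fin n))) :=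
  Subgroup.le_normalizer hg

end Fix

/-- The centraliser of the pairing. -/
def pairCentralizer (n : ℕ) : Subgroup (Perm (Fin n)) := Subgroup.centralizer {partner n}

theorem mem_pairCentralizer {n : ℕ} {σ : Perm (Fin n)} :
    σ ∈ pairCentralizer n ↔ ∀ x, σ (partner n x) = partner n (σ x) := by
  rw [pairCentralizer, Subgroup.mem_centralizer_singleton_iff]
  constructor
  · intro h x
    have := DFunLike.congr_fun h x
    simpa using this
  · intro h
    exact Equiv.ext fun x => by simpa using h x

theorem lt_of_mem {n : ℕ} {σ : Perm (Fin n)} (hσ : σ ∈ pairCentralizer n) (x : Fin n)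
    (hx : x.val < 2 * (n / 2)) : (σ x).val < 2 * (n / 2) := by
  by_contra h
  have h1 : partner n (σ x) = σ x := (partner_eq_self_iff n _).2 (by omega)
  rw [← mem_pairCentralizer.1 hσ] at h1
  have := (partner_eq_self_iff n x).1 (σ.injective h1)
  omega

theorem div_eq_of_mem {n : ℕ} {σ : Perm (Fin n)} (hσ : σ ∈ pairCentralizer n) (x y : Fin n)
    (hx : x.val < 2 * (n / 2)) (hy : y.val < 2 * (n / 2)) (h : x.val / 2 = y.val / 2) :
    (σ x).val / 2 = (σ y).val / 2 := by
  rcases pair_eq n x y hx hy h with rfl | rfl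
  · rfl
  · rw [mem_pairCentralizer.1 hσ x]
    have := lt_of_mem hσ x hx
    rw [partner_val]
    split_ifs <;> omega

/-- The action of the centraliser of the pairing on the pairs. -/
def pairAction (n : ℕ) : pairCentralizer n →* Perm (Fin (n / 2)) :=
  MonoidHom.toHomPerm
    { toFun := fun σ k => ⟨(σ.1 ⟨2 * k.val, by omega⟩).val / 2, by
        have := lt_of_mem σ.2 ⟨2 * k.val, by omega⟩ (by have := k.isLt; simp only; omega)
        omega⟩
      map_one' := by funext k; apply Fin.ext; simp [Function.End.one_def]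
      map_mul' := fun σ τ => by
        funext k
        apply Fin.ext
        show ((σ.1 (τ.1 ⟨2 * k.val, _⟩)).val) / 2 = (σ.1 ⟨2 * ((τ.1 ⟨2 * k.val, _⟩).val / 2), _⟩).val / 2
        have h1 := lt_of_mem τ.2 ⟨2 * k.val, by omega⟩ (by have := k.isLt; simp only; omega)
        exact div_eq_of_mem σ.2 _ _ h1 (by simp only; omega) (by simp only; omega) }

theorem pairAction_apply (n : ℕ) (σ : pairCentralizer n) (k : Fin (n / 2)) :
    (pairAction n σ k).val = (σ.1 ⟨2 * k.val, by omega⟩).val / 2 := rfl

theorem pairAction_ker_le (n : ℕ) (σ : pairCentralizer n) (h : pairAction n σ = 1) : σ.1 ∈ pairGroup n := by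
  intro x
  by_cases hx : x.val < 2 * (n / 2)
  · have h1 := pairAction_apply n σ ⟨x.val / 2, by omega⟩
    rw [h, Perm.one_apply] at h1
    have h2 := div_eq_of_mem σ.2 x ⟨2 * (x.val / 2), by omega⟩ hx (by simp only; omega) (by simp only; omega)
    exact pair_eq n x (σ.1 x) hx (lt_of_mem σ.2 x hx) (by simp only at h1; omega)
  · left
    have h1 : partner n x = x := (partner_eq_self_iff n x).2 (by omega)
    have h2 := mem_pairCentralizer.1 σ.2 x
    rw [h1] at h2
    have h3 := (partner_eq_self_iff n _).1 h2.symm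
    exact Fin.ext (by omega)

/-- Extend a permutation of the pairs. -/
def pairLift (n : ℕ) (s : Perm (Fin (n / 2))) (x : Fin n) : Fin n :=
  if h : x.val < 2 * (n / 2) then ⟨2 * (s ⟨x.val / 2, by omega⟩).val + x.val % 2, by
    have := (s ⟨x.val / 2, by omega⟩).isLt; omega⟩ else x

theorem pairLift_symm (n : ℕ) (s : Perm (Fin (n / 2))) (x : Fin n) : pairLift n s.symm (pairLift n s x) = x := by
  apply Fin.ext
  by_cases h : x.val < 2 * (n / 2)
  · have h' : 2 * (s ⟨x.val / 2, by omega⟩).val + x.val % 2 < 2 * (n / 2) := by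
      have := (s ⟨x.val / 2, by omega⟩).isLt; omega
    simp only [pairLift, dif_pos h, dif_pos h']
    have he : (⟨(2 * (s ⟨x.val / 2, by omega⟩).val + x.val % 2) / 2, by omega⟩ : Fin (n / 2)) =
        s ⟨x.val / 2, by omega⟩ := Fin.ext (by simp only; omega)
    rw [he, Equiv.symm_apply_apply]
    simp only
    omega
  · simp only [pairLift, dif_neg h]

theorem pairAction_surjective (n : ℕ) : Function.Surjective (pairAction n) := by
  intro s
  let σ : Perm (Fin n) := ⟨pairLift n s, pairLift n s.symm, pairLift_symm n s,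
    fun x => by have := pairLift_symm n s.symm x; simpa using this⟩
  have hσ : σ ∈ pairCentralizer n := by
    rw [mem_pairCentralizer]
    intro x
    apply Fin.ext
    show (pairLift n s (partner n x)).val = (partner n (pairLift n s x)).val
    by_cases h : x.val < 2 * (n / 2)
    · have h' : (partner n x).val < 2 * (n / 2) := by rw [partner_val]; split_ifs <;> omega
      have he : (⟨(partner n x).val / 2, by omega⟩ : Fin (n / 2)) = ⟨x.val / 2, by omega⟩ :=
        Fin.ext (partner_div x)
      have hm := partner_mod x h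
      have := (s ⟨x.val / 2, by omega⟩).isLt
      simp only [pairLift, dif_pos h, dif_pos h', he]
      generalize (partner n x).val = a at hm ⊢
      rw [partner_val]
      dsimp only
      split_ifs <;> omega
    · have h1 : partner n x = x := (partner_eq_self_iff n x).2 (by omega)
      simp only [pairLift, h1, dif_neg h]
  refine ⟨⟨σ, hσ⟩, ?_⟩
  ext k
  rw [pairAction_apply]
  show (pairLift n s _).val / 2 = _
  have hk : 2 * k.val < 2 * (n / 2) := by omega
  simp only [pairLift, dif_pos hk]
  have he : (⟨2 * k.val / 2, by omega⟩ : Fin (n / 2)) = k := Fin.ext (by simp only; omega)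
  rw [he]
  omega

theorem exists_pairGroup_le (n : ℕ) (P : Sylow 2 (Perm (Fin n))) :
    ∃ (g : Perm (Fin n)) (Q : Sylow 2 (Perm (Fin n))), pairGroup n ≤ (Q : Subgroup (Perm (Fin n))) ∧
      g • Q = P := by
  haveI : Fact (Nat.Prime 2) := ⟨Nat.prime_two⟩
  obtain ⟨Q, hQ⟩ := (isPGroup_pairGroup n).exists_le_sylow
  obtain ⟨g, hg⟩ := MulAction.exists_smul_eq (Perm (Fin n)) Q P
  exact ⟨g, Q, hQ, hg⟩

/-- A Sylow 2-subgroup of a symmetric group is its own normaliser. -/
theorem normalizer_sylow (n : ℕ) (P : Sylow 2 (Perm (Fin n))) :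
    Subgroup.normalizer ((P : Subgroup (Perm (Fin n))) : Set (Perm (Fin n))) = (P : Subgroup (Perm (Fin n))) := by
  induction n using Nat.strong_induction_on with
  | _ n ih =>
    haveI : Fact (Nat.Prime 2) := ⟨Nat.prime_two⟩
    refine le_antisymm ?_ Subgroup.le_normalizer
    by_cases hn : n ≤ 1
    · intro g _
      have : Subsingleton (Fin n) := ⟨fun a b => Fin.ext (by omega)⟩
      rw [Subsingleton.elim g 1]
      exact Subgroup.one_mem _
    obtain ⟨h, Q, hE, rfl⟩ := exists_pairGroup_le n P
    suffices hQn : Subgroup.normalizer ((Q : Subgroup (Perm (Fin n))) : Set (Perm (Fin n))) ≤ (Q : Subgroup (Perm (Fin n))) by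
      intro g hg
      have h1 : g • (h • Q) = h • Q := Sylow.smul_eq_iff_mem_normalizer.2 hg
      have h2 : (h⁻¹ * g * h) • Q = Q := by rw [mul_smul, mul_smul, h1, inv_smul_smul]
      have h3 := hQn (Sylow.smul_eq_iff_mem_normalizer.1 h2)
      rw [Sylow.coe_subgroup_smul, Subgroup.mem_pointwise_smul_iff_inv_smul_mem]
      simpa [MulAut.inv_def, MulAut.smul_def, mul_assoc] using h3
    intro g hg
    have hNW : Subgroup.normalizer ((Q : Subgroup (Perm (Fin n))) : Set (Perm (Fin n))) ≤ pairCentralizer n :=
      fun x hx => mem_pairCentralizer.2 (commute_of_normalizes Q.2 hE x hx)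
    have hQW : (Q : Subgroup (Perm (Fin n))) ≤ pairCentralizer n := le_trans Subgroup.le_normalizer hNW
    let QW : Sylow 2 (pairCentralizer n) := Q.subtype hQW
    let R : Sylow 2 (Perm (Fin (n / 2))) := QW.mapSurjective (pairAction_surjective n)
    have hR : pairAction n ⟨g, hNW hg⟩ ∈ Subgroup.normalizer ((R : Subgroup (Perm (Fin (n / 2)))) : Set (Perm (Fin (n / 2)))) := by
      refine Subgroup.le_normalizer_map (pairAction n) (Subgroup.mem_map_of_mem _ ?_)
      rw [Subgroup.mem_normalizer_iff]
      intro y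
      exact Subgroup.mem_normalizer_iff.1 hg y.1
    rw [ih (n / 2) (by omega) R] at hR
    obtain ⟨q, hq, hqg⟩ := hR
    have hk : pairAction n (⟨g, hNW hg⟩ * q⁻¹) = 1 := by rw [map_mul, map_inv, hqg, mul_inv_cancel]
    have h1 := hE (pairAction_ker_le n _ hk)
    have h2 := (Q : Subgroup (Perm (Fin n))).mul_mem h1 (show q.1 ∈ (Q : Subgroup (Perm (Fin n))) from hq)
    simpa using h2

/-- In degree at least 6 a permutation normalising the even part of a Sylow 2-subgroup normalises the subgroup. -/
theorem normalizer_even_part_le {n : ℕ} (hn : 6 ≤ n) (Q : Sylow 2 (Perm (Fin n))) :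
    Subgroup.normalizer (((Q : Subgroup (Perm (Fin n))) ⊓ alternatingGroup (Fin n) : Subgroup (Perm (Fin n))) :
      Set (Perm (Fin n))) ≤ (Q : Subgroup (Perm (Fin n))) := by
  haveI : Fact (Nat.Prime 2) := ⟨Nat.prime_two⟩
  obtain ⟨h, Q₀, hE, rfl⟩ := exists_pairGroup_le n Q
  set P : Subgroup (Perm (Fin n)) := (Q₀ : Subgroup (Perm (Fin n))) ⊓ alternatingGroup (Fin n) with hP
  suffices hmain : Subgroup.normalizer (P : Set (Perm (Fin n))) ≤ (Q₀ : Subgroup (Perm (Fin n))) by
    intro g hg
    rw [Subgroup.mem_normalizer_iff] at hg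
    rw [Sylow.coe_subgroup_smul, Subgroup.mem_pointwise_smul_iff_inv_smul_mem]
    have : h⁻¹ * g * h ∈ Subgroup.normalizer (P : Set (Perm (Fin n))) := by
      rw [Subgroup.mem_normalizer_iff]
      intro y
      have hiff : ∀ z, z ∈ ((h • Q₀ : Sylow 2 (Perm (Fin n))) : Subgroup (Perm (Fin n))) ⊓ alternatingGroup (Fin n) ↔
          h⁻¹ * z * h ∈ P := by
        intro z
        rw [hP, Subgroup.mem_inf, Subgroup.mem_inf, Sylow.coe_subgroup_smul,
          Subgroup.mem_pointwise_smul_iff_inv_smul_mem, Perm.mem_alternatingGroup, Perm.mem_alternatingGroup]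
        rcases Int.units_eq_one_or (Perm.sign h) with e | e <;>
          simp [e, MulAut.smul_def, MulAut.inv_def, mul_assoc]
      have h1 := hg (h * y * h⁻¹)
      rw [hiff, hiff] at h1
      simpa [mul_assoc] using h1
    simpa [MulAut.inv_def, MulAut.smul_def, mul_assoc] using hmain this
  intro g hg
  have hdouble : ∀ x y : Fin n, partner n x ≠ x → partner n y ≠ y → y ≠ x → y ≠ partner n x →
      swap x (partner n x) * swap y (partner n y) ∈ P := by
    intro x y hx hy h1 h2
    refine ⟨(Q₀ : Subgroup (Perm (Fin n))).mul_mem (hE (swap_mem_pairGroup n x)) (hE (swap_mem_pairGroup n y)), ?_⟩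
    show _ ∈ alternatingGroup (Fin n)
    rw [Perm.mem_alternatingGroup, map_mul, Perm.sign_swap (Ne.symm hx), Perm.sign_swap (Ne.symm hy)]
    simp
  have hcom : ∀ σ ∈ P, ∀ x, σ (partner n x) = partner n (σ x) := fun σ hσ x =>
    commute_of_normalizes Q₀.2 hE σ (Subgroup.le_normalizer hσ.1) x
  -- three pairs avoiding a given one
  have hthird : ∀ a x : Fin n, ∃ y, partner n y ≠ y ∧ y ≠ a ∧ y ≠ partner n a ∧ y ≠ x ∧ y ≠ partner n x := by
    intro a x
    let k : ℕ := if a.val / 2 ≠ 0 ∧ x.val / 2 ≠ 0 then 0 else if a.val / 2 ≠ 1 ∧ x.val / 2 ≠ 1 then 1 else 2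
    have hk : k < 3 ∧ k ≠ a.val / 2 ∧ k ≠ x.val / 2 := by simp only [k]; split_ifs <;> omega
    refine ⟨⟨2 * k, by omega⟩, ?_, ?_, ?_, ?_, ?_⟩
    · rw [Ne, partner_eq_self_iff]; simp only; omega
    all_goals
      rw [Ne, Fin.ext_iff]; simp only [partner_val]
      try split_ifs
      all_goals omega
  have hfixed : ∀ f, partner n f = f → ∀ σ ∈ P, σ f = f := by
    intro f hf σ hσ
    have := hcom σ hσ f
    rw [hf] at this
    have h2 := (partner_eq_self_iff n _).1 this.symm
    have h3 := (partner_eq_self_iff n f).1 hf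
    exact Fin.ext (by omega)
  have hsmall : ∀ a x : Fin n, partner n x ≠ x → x ≠ a → x ≠ partner n a → ∃ σ ∈ P, σ a = a ∧ σ x ≠ x := by
    intro a x hx h1 h2
    obtain ⟨y, hy, hya, hya', hyx, hyx'⟩ := hthird a x
    refine ⟨_, hdouble x y hx hy hyx hyx', ?_, ?_⟩
    · have e1 : a ≠ partner n x := fun e => h2 (by rw [e, partner_partner])
      have e2 : a ≠ partner n y := fun e => hya' (by rw [e, partner_partner])
      rw [Perm.mul_apply, swap_apply_of_ne_of_ne (Ne.symm hya) e2, swap_apply_of_ne_of_ne (Ne.symm h1) e1]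
    · have e2 : x ≠ partner n y := fun e => hyx' (by rw [e, partner_partner])
      rw [Perm.mul_apply, swap_apply_of_ne_of_ne (Ne.symm hyx) e2, swap_apply_left]
      exact hx
  have hgfix : ∀ f, partner n f = f → partner n (g f) = g f := by
    intro f hf
    by_contra hne
    obtain ⟨σ, hσ, -, hσx⟩ := hsmall f (g f) hne (fun e => hne (by rw [e, hf])) (fun e => hne (by rw [e, hf, hf]))
    apply hσx
    have hc : g⁻¹ * σ * g ∈ P := by
      have := (Subgroup.mem_normalizer_iff.1 (Subgroup.inv_mem _ hg) σ).1 hσ
      simpa using this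
    have := congrArg g (hfixed f hf _ hc)
    simpa using this
  have hgW : g ∈ pairCentralizer n := by
    rw [mem_pairCentralizer]
    intro a
    by_cases ha : partner n a = a
    · rw [ha, hgfix a ha]
    set x := g (partner n a) with hx
    have hxa : x ≠ g a := fun e => ha (g.injective e)
    by_contra hne
    by_cases hxf : partner n x = x
    · by_cases hf : ∃ f : Fin n, partner n f = f
      · obtain ⟨f, hf⟩ := hf
        have h1 := (partner_eq_self_iff n _).1 (hgfix f hf)
        have h2 := (partner_eq_self_iff n x).1 hxf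
        have : g f = x := Fin.ext (by omega)
        have h3 := g.injective this
        exact ha (by have := congrArg (partner n) h3; rw [partner_partner, hf] at this; exact h3.symm.trans this)
      · exact hf ⟨x, hxf⟩
    obtain ⟨σ, hσ, hσa, hσx⟩ := hsmall (g a) x hxf hxa hne
    apply hσx
    have hc : g⁻¹ * σ * g ∈ P := by
      have := (Subgroup.mem_normalizer_iff.1 (Subgroup.inv_mem _ hg) σ).1 hσ
      simpa using this
    have hfix : (g⁻¹ * σ * g) a = a := by simp [hσa]
    have := hcom _ hc a
    rw [hfix] at this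
    have := congrArg g this
    simpa using this
  have hgE : ∀ x, g * swap x (partner n x) * g⁻¹ ∈ (Q₀ : Subgroup (Perm (Fin n))) := by
    intro x
    rw [← swap_apply_apply, mem_pairCentralizer.1 hgW]
    exact hE (swap_mem_pairGroup n (g x))
  rw [← normalizer_sylow n Q₀, Subgroup.mem_normalizer_iff]
  have hone : ∀ g' : Perm (Fin n), g' ∈ Subgroup.normalizer (P : Set (Perm (Fin n))) →
      (∀ x, g' * swap x (partner n x) * g'⁻¹ ∈ (Q₀ : Subgroup (Perm (Fin n)))) →
      ∀ q ∈ (Q₀ : Subgroup (Perm (Fin n))), g' * q * g'⁻¹ ∈ (Q₀ : Subgroup (Perm (Fin n))) := by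
    intro g' hg' hg'E q hq
    rcases Int.units_eq_one_or (Perm.sign q) with h | h
    · exact ((Subgroup.mem_normalizer_iff.1 hg' q).1 ⟨hq, Perm.mem_alternatingGroup.2 h⟩).1
    · set t : Perm (Fin n) := swap ⟨0, by omega⟩ (partner n ⟨0, by omega⟩) with ht
      have hts : Perm.sign t = -1 := Perm.sign_swap (fun e => by
        have := (partner_eq_self_iff n ⟨0, by omega⟩).1 e.symm; simp only at this; omega)
      have hqt : q * t ∈ P := ⟨(Q₀ : Subgroup (Perm (Fin n))).mul_mem hq (hE (swap_mem_pairGroup n _)), by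
        show _ ∈ alternatingGroup (Fin n)
        rw [Perm.mem_alternatingGroup, map_mul, h, hts]; simp⟩
      have h1 := ((Subgroup.mem_normalizer_iff.1 hg' _).1 hqt).1
      have h2 := (Q₀ : Subgroup (Perm (Fin n))).mul_mem h1 ((Q₀ : Subgroup (Perm (Fin n))).inv_mem (hg'E ⟨0, by omega⟩))
      simpa [ht, mul_assoc] using h2
  intro q
  refine ⟨hone g hg hgE q, fun hq => ?_⟩
  have := hone g⁻¹ (Subgroup.inv_mem _ hg) (fun x => by
    rw [← swap_apply_apply, mem_pairCentralizer.1 (Subgroup.inv_mem _ hgW)]
    exact hE (swap_mem_pairGroup n _)) _ hq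
  simpa [mul_assoc] using this

end Cfsg.Agent.SymSylow
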