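import Cfsg.Agent.SymSylow.Alt

/-!
Overgroups of Sylow 2-subgroups of symmetric and alternating groups.
-/

set_option autoImplicit false

namespace Cfsg.Agent.SymSylow

open Equiv

variable {n : ℕ}

/-- A subgroup containing all products of two transpositions through `a`, one of them fixed, contains the
alternating group. -/
theorem alt_le_of_swaps {J : Subgroup (Perm (Fin n))} {a b : Fin n} (hab : a ≠ b)
    (h : ∀ x, x ≠ a → x ≠ b → swap a x * swap a b ∈ J) : alternatingGroup (Fin n) ≤ J := by
  set S : Set (Perm (Fin n)) := {σ | ∃ x, x ≠ a ∧ x ≠ b ∧ σ = swap a x * swap a b} with hS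
  set J' := Subgroup.closure S with hJ'
  have hJJ : J' ≤ J := (Subgroup.closure_le _).2 fun σ ⟨x, hx, hx', e⟩ => e ▸ h x hx hx'
  refine le_trans ?_ hJJ
  have hA : J' ≤ alternatingGroup (Fin n) := (Subgroup.closure_le _).2 fun σ ⟨x, hx, _, e⟩ => by
    show σ ∈ alternatingGroup (Fin n)
    rw [e, Perm.mem_alternatingGroup, map_mul, Perm.sign_swap (Ne.symm hx), Perm.sign_swap hab]
    simp
  have hgen : ∀ σ ∈ J', swap a b * σ * swap a b ∈ J' := by
    intro σ hσ
    induction hσ using Subgroup.closure_induction with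
    | mem σ hσ =>
      obtain ⟨x, hx, hx', rfl⟩ := hσ
      have : swap a b * (swap a x * swap a b) * swap a b = (swap a x * swap a b)⁻¹ := by
        simp [mul_assoc]
      rw [this]
      exact J'.inv_mem (Subgroup.subset_closure ⟨x, hx, hx', rfl⟩)
    | one => simp
    | mul σ τ _ _ h1 h2 =>
      have : swap a b * (σ * τ) * swap a b = (swap a b * σ * swap a b) * (swap a b * τ * swap a b) := by
        simp [mul_assoc]
      rw [this]
      exact J'.mul_mem h1 h2
    | inv σ _ h1 =>
      have : swap a b * σ⁻¹ * swap a b = (swap a b * σ * swap a b)⁻¹ := by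
        simp [mul_assoc]
      rw [this]
      exact J'.inv_mem h1
  have hall : ∀ σ : Perm (Fin n), σ ∈ J' ∨ σ * swap a b ∈ J' := by
    let K : Subgroup (Perm (Fin n)) :=
      { carrier := {σ | σ ∈ J' ∨ σ * swap a b ∈ J'}
        one_mem' := Or.inl J'.one_mem
        mul_mem' := fun {σ τ} hσ hτ => by
          rcases hσ with hσ | hσ <;> rcases hτ with hτ | hτ
          · exact Or.inl (J'.mul_mem hσ hτ)
          · exact Or.inr (by rw [mul_assoc]; exact J'.mul_mem hσ hτ)
          · exact Or.inr (by
              have := J'.mul_mem hσ (hgen τ hτ)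
              simpa [mul_assoc] using this)
          · exact Or.inl (by
              have := J'.mul_mem hσ (hgen _ hτ)
              simpa [mul_assoc] using this)
        inv_mem' := fun {σ} hσ => by
          rcases hσ with hσ | hσ
          · exact Or.inl (J'.inv_mem hσ)
          · refine Or.inr ?_
            have := hgen _ (J'.inv_mem hσ)
            simpa [mul_assoc] using this }
    have hs : ∀ x, x ≠ a → swap a x ∈ K := by
      intro x hx
      right
      by_cases hxb : x = b
      · rw [hxb, swap_mul_self]; exact J'.one_mem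
      · exact Subgroup.subset_closure ⟨x, hx, hxb, rfl⟩
    have htop : K = ⊤ := by
      rw [eq_top_iff, ← Perm.closure_isSwap, Subgroup.closure_le]
      rintro σ ⟨x, y, hxy, rfl⟩
      by_cases hx : x = a
      · subst hx; exact hs y (Ne.symm hxy)
      by_cases hy : y = a
      · subst hy; rw [swap_comm]; exact hs x hx
      have e : swap x y = swap a x * swap a y * (swap a x)⁻¹ := by
        rw [← swap_apply_apply, swap_apply_left, swap_apply_of_ne_of_ne hy (Ne.symm hxy)]
      rw [e]
      exact K.mul_mem (K.mul_mem (hs x hx) (hs y hy)) (K.inv_mem (hs x hx))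
    intro σ
    have : σ ∈ K := by rw [htop]; exact Subgroup.mem_top σ
    exact this
  intro σ hσ
  rcases hall σ with h1 | h1
  · exact h1
  · exfalso
    have h2 := Perm.mem_alternatingGroup.1 (hA h1)
    rw [map_mul, Perm.sign_swap hab, Perm.mem_alternatingGroup.1 hσ] at h2
    exact absurd h2 (by decide)

/-- The stabiliser of the partition `{B, Bᶜ}`. -/
def partStab (B : Set (Fin n)) : Subgroup (Perm (Fin n)) where
  carrier := {σ | (∀ x, σ x ∈ B ↔ x ∈ B) ∨ (∀ x, σ x ∈ B ↔ x ∉ B)}
  one_mem' := Or.inl fun _ => Iff.rfl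
  mul_mem' := fun {σ τ} hσ hτ => by
    rcases hσ with hσ | hσ <;> rcases hτ with hτ | hτ
    · exact Or.inl fun x => by rw [Perm.mul_apply, hσ, hτ]
    · exact Or.inr fun x => by rw [Perm.mul_apply, hσ, hτ]
    · exact Or.inr fun x => by rw [Perm.mul_apply, hσ, hτ]
    · exact Or.inl fun x => by rw [Perm.mul_apply, hσ, hτ, not_not]
  inv_mem' := fun {σ} hσ => by
    rcases hσ with hσ | hσ
    · exact Or.inl fun x => by rw [← hσ, ← Perm.mul_apply, mul_inv_cancel, Perm.one_apply]
    · refine Or.inr fun x => ?_
      have := hσ (σ⁻¹ x)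
      rw [← Perm.mul_apply, mul_inv_cancel, Perm.one_apply] at this
      tauto

theorem three_mem_alt {a b c : Fin n} (hab : a ≠ b) (hac : a ≠ c) :
    swap a b * swap a c ∈ alternatingGroup (Fin n) := by
  rw [Perm.mem_alternatingGroup, map_mul, Perm.sign_swap hab, Perm.sign_swap hac]
  simp

theorem swap_mem_partStab {B : Set (Fin n)} {a b : Fin n} (h : a ∈ B ↔ b ∈ B) : swap a b ∈ partStab B := by
  refine Or.inl fun x => ?_
  rcases eq_or_ne x a with rfl | h1
  · rw [swap_apply_left]; exact h.symm
  rcases eq_or_ne x b with rfl | h2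
  · rw [swap_apply_right]; exact h
  rw [swap_apply_of_ne_of_ne h1 h2]

theorem not_alt_le_partStab {B : Set (Fin n)} {a b c : Fin n} (hab : a ≠ b) (ha : a ∈ B) (hb : b ∈ B)
    (hc : c ∉ B) : ¬ alternatingGroup (Fin n) ≤ partStab B := by
  intro h
  have hca : c ≠ a := fun e => hc (e ▸ ha)
  have hcb : c ≠ b := fun e => hc (e ▸ hb)
  have hm := h (three_mem_alt hca hcb)
  rcases hm with hm | hm
  · have := (hm b).2 hb
    rw [Perm.mul_apply, swap_apply_right, swap_apply_left] at this
    have h2 := (hm a).2 ha
    rw [Perm.mul_apply, swap_apply_of_ne_of_ne hca.symm hab, swap_apply_right] at h2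
    exact hc h2
  · have := (hm b).1
    rw [Perm.mul_apply, swap_apply_right, swap_apply_left] at this
    exact this ha hb

theorem not_alt_le_stabilizer {f a b : Fin n} (hab : a ≠ b) (hfa : f ≠ a) (hfb : f ≠ b) :
    ¬ alternatingGroup (Fin n) ≤ MulAction.stabilizer (Perm (Fin n)) f := by
  intro h
  have := h (three_mem_alt hfa hfb)
  rw [MulAction.mem_stabilizer_iff, Perm.smul_def, Perm.mul_apply, swap_apply_left,
    swap_apply_of_ne_of_ne (Ne.symm hfb) (Ne.symm hab)] at this
  exact hfb this.symm

theorem exists_moved (hn : 2 ≤ n) : ∃ a : Fin n, partner n a ≠ a :=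
  ⟨⟨0, by omega⟩, fun e => by have := (partner_eq_self_iff n _).1 e; simp only at this; omega⟩

theorem not_alt_le_pairCentralizer (hn : 4 ≤ n) : ¬ alternatingGroup (Fin n) ≤ pairCentralizer n := by
  intro h
  obtain ⟨a, ha⟩ := exists_moved (n := n) (by omega)
  obtain ⟨c, hca, hcp⟩ : ∃ c : Fin n, c ≠ a ∧ c ≠ partner n a :=
    ENat.exists_ne_ne_of_three_le (by simp; exact_mod_cast (show 3 ≤ n by omega)) a (partner n a)
  have := mem_pairCentralizer.1 (h (three_mem_alt (Ne.symm ha) (Ne.symm hca))) a
  simp only [Perm.mul_apply, swap_apply_left, swap_apply_of_ne_of_ne ha (Ne.symm hcp), swap_apply_right,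
    swap_apply_of_ne_of_ne hca hcp] at this
  -- `a = partner c`
  have h2 := congrArg (partner n) this
  rw [partner_partner] at h2
  exact hcp h2.symm

section Sylow

variable {Q : Sylow 2 (Perm (Fin n))}

theorem commute_partner (hE : pairGroup n ≤ (Q : Subgroup (Perm (Fin n)))) {q : Perm (Fin n)}
    (hq : q ∈ (Q : Subgroup (Perm (Fin n)))) (x : Fin n) : q (partner n x) = partner n (q x) :=
  commute_of_normalizes Q.2 hE q (Subgroup.le_normalizer hq) x

theorem fixed_fix (hE : pairGroup n ≤ (Q : Subgroup (Perm (Fin n)))) {q : Perm (Fin n)}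
    (hq : q ∈ (Q : Subgroup (Perm (Fin n)))) {f : Fin n} (hf : partner n f = f) : q f = f := by
  have := commute_partner hE hq f
  rw [hf] at this
  have h1 := (partner_eq_self_iff n _).1 this.symm
  have h2 := (partner_eq_self_iff n f).1 hf
  exact Fin.ext (by omega)

theorem fixed_unique {x f : Fin n} (hx : partner n x = x) (hf : partner n f = f) : x = f := by
  have h1 := (partner_eq_self_iff n x).1 hx
  have h2 := (partner_eq_self_iff n f).1 hf
  exact Fin.ext (by omega)

theorem partner_mem_pairGroup : partner n ∈ pairGroup n := fun _ => Or.inr rfl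

/-- When `n` is not one more than a power of two, two proper overgroups of a Sylow 2-subgroup generate. -/
theorem exists_two_overgroups (hn : 7 ≤ n) (hnk : ¬ ∃ k : ℕ, 2 ≤ k ∧ n = 2 ^ k + 1)
    (hE : pairGroup n ≤ (Q : Subgroup (Perm (Fin n)))) :
    ∃ U V : Subgroup (Perm (Fin n)), (Q : Subgroup (Perm (Fin n))) ≤ U ∧ (Q : Subgroup (Perm (Fin n))) ≤ V ∧
      ¬ alternatingGroup (Fin n) ≤ U ∧ ¬ alternatingGroup (Fin n) ≤ V ∧
      alternatingGroup (Fin n) ≤ (U ⊓ alternatingGroup (Fin n)) ⊔ (V ⊓ alternatingGroup (Fin n)) := by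
  classical
  haveI : Fact (Nat.Prime 2) := ⟨Nat.prime_two⟩
  set x₀ : Fin n := ⟨0, by omega⟩ with hx₀
  have hx₀p : partner n x₀ ≠ x₀ := fun e => by have := (partner_eq_self_iff n _).1 e; simp [hx₀] at this; omega
  set S : Set (Fin n) := MulAction.orbit (Q : Subgroup (Perm (Fin n))) x₀ with hS
  have hSinv : ∀ q ∈ (Q : Subgroup (Perm (Fin n))), ∀ x, q x ∈ S ↔ x ∈ S := by
    intro q hq x
    constructor
    · rintro ⟨⟨r, hr⟩, h⟩
      have h' : r x₀ = q x := h
      refine ⟨⟨q⁻¹ * r, (Q : Subgroup (Perm (Fin n))).mul_mem ((Q : Subgroup (Perm (Fin n))).inv_mem hq) hr⟩, ?_⟩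
      show (q⁻¹ * r) x₀ = x
      rw [Perm.mul_apply, h', ← Perm.mul_apply, inv_mul_cancel, Perm.one_apply]
    · rintro ⟨⟨r, hr⟩, h⟩
      refine ⟨⟨q * r, (Q : Subgroup (Perm (Fin n))).mul_mem hq hr⟩, ?_⟩
      show (q * r) x₀ = q x
      exact congrArg q h
  have hSp : ∀ x, partner n x ∈ S ↔ x ∈ S := hSinv _ (hE partner_mem_pairGroup)
  rcases Nat.even_or_odd n with hev | hod
  · -- even degree
    have hnofix : ∀ x : Fin n, partner n x ≠ x := fun x e => by
      have := (partner_eq_self_iff n x).1 e
      rcases hev with ⟨r, hr⟩; omega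
    obtain ⟨B, hQB, hBp, hb0, c₀, hc₀⟩ : ∃ B : Set (Fin n), (Q : Subgroup (Perm (Fin n))) ≤ partStab B ∧
        (∀ x, partner n x ∈ B ↔ x ∈ B) ∧ x₀ ∈ B ∧ ∃ c, c ∉ B := by
      by_cases hfull : ∀ x, x ∈ S
      · -- transitive case
        let L : Subgroup (Q : Subgroup (Perm (Fin n))) :=
          { carrier := {q | q.1 x₀ = x₀ ∨ q.1 x₀ = partner n x₀}
            one_mem' := Or.inl rfl
            mul_mem' := fun {q r} hq hr => by
              rcases hr with hr | hr
              · simp only [Set.mem_setOf_eq, Subgroup.coe_mul, Perm.mul_apply, hr]; exact hq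
              · simp only [Set.mem_setOf_eq, Subgroup.coe_mul, Perm.mul_apply, hr, commute_partner hE q.2]
                rcases hq with hq | hq
                · exact Or.inr (by rw [hq])
                · exact Or.inl (by rw [hq, partner_partner])
            inv_mem' := fun {q} hq => by
              rcases hq with hq | hq
              · left
                rw [Subgroup.coe_inv, Perm.inv_eq_iff_eq, hq]
              · right
                rw [Subgroup.coe_inv, Perm.inv_eq_iff_eq, commute_partner hE q.2, hq, partner_partner] }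
        obtain ⟨c, hc1, hc2⟩ : ∃ c : Fin n, c ≠ x₀ ∧ c ≠ partner n x₀ :=
          ENat.exists_ne_ne_of_three_le (by simp; exact_mod_cast (show 3 ≤ n by omega)) _ _
        obtain ⟨⟨qc, hqc⟩, hqcx⟩ := hfull c
        have hLne : L ≠ ⊤ := by
          intro e
          have : (⟨qc, hqc⟩ : (Q : Subgroup (Perm (Fin n)))) ∈ L := e ▸ Subgroup.mem_top _
          have hh : qc x₀ = c := hqcx
          rcases this with h | h
          · exact hc1 (hh.symm.trans h)
          · exact hc2 (hh.symm.trans h)
        obtain ⟨a, ha⟩ := IsPGroup.iff_card.1 Q.2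
        obtain ⟨l, hl⟩ := IsPGroup.iff_card.1 (Q.2.to_subgroup L)
        have hla : l < a := by
          by_contra hle
          refine hLne (Subgroup.eq_top_of_le_card L ?_)
          rw [ha, hl]; exact Nat.pow_le_pow_right (by norm_num) (by omega)
        obtain ⟨H, hHc, hLH⟩ := Sylow.exists_subgroup_card_pow_prime_le 2 (n := l) (m := a - 1)
          (by rw [ha]; exact pow_dvd_pow 2 (by omega)) L hl (by omega)
        have hHi : H.index = 2 := by
          have := H.index_mul_card
          rw [ha, hHc, show a = (a - 1) + 1 by omega, pow_succ, mul_comm (2 ^ (a - 1))] at this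
          simpa [show a - 1 + 1 - 1 = a - 1 by omega] using this
        set B : Set (Fin n) := MulAction.orbit H x₀ with hB
        have hiff : ∀ q : (Q : Subgroup (Perm (Fin n))), q.1 x₀ ∈ B ↔ q ∈ H := by
          intro q
          constructor
          · rintro ⟨h, hh⟩
            have hh' : (h.1.1 : Perm (Fin n)) x₀ = q.1 x₀ := hh
            have : (h.1)⁻¹ * q ∈ H := hLH (Or.inl (by
              rw [Subgroup.coe_mul, Subgroup.coe_inv, Perm.mul_apply, ← hh', ← Perm.mul_apply, inv_mul_cancel,
                Perm.one_apply]))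
            simpa using H.mul_mem h.2 this
          · exact fun h => ⟨⟨q, h⟩, rfl⟩
        obtain ⟨q, hq⟩ : ∃ q, q ∉ H := by
          by_contra hh
          push_neg at hh
          rw [(Subgroup.eq_top_iff' H).2 hh, Subgroup.index_top] at hHi
          omega
        refine ⟨B, ?_, ?_, MulAction.mem_orbit_self _, q.1 x₀, ?_⟩
        · intro σ hσ
          have key : ∀ x, σ x ∈ B ↔ ((⟨σ, hσ⟩ : (Q : Subgroup (Perm (Fin n)))) ∈ H ↔ x ∈ B) := by
            intro x
            obtain ⟨q, rfl⟩ := hfull x
            show (σ * q.1) x₀ ∈ B ↔ _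
            rw [show σ * q.1 = ((⟨σ, hσ⟩ : (Q : Subgroup (Perm (Fin n)))) * q).1 from rfl, hiff,
              Subgroup.mul_mem_iff_of_index_two hHi]
            exact Iff.iff (Iff.rfl) (hiff q).symm
          by_cases hm : (⟨σ, hσ⟩ : (Q : Subgroup (Perm (Fin n)))) ∈ H
          · exact Or.inl fun x => by rw [key x]; simp [hm]
          · exact Or.inr fun x => by rw [key x]; simp [hm]
        · intro x
          obtain ⟨q, rfl⟩ := hfull x
          have hpH : (⟨partner n, hE partner_mem_pairGroup⟩ : (Q : Subgroup (Perm (Fin n)))) ∈ H :=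
            hLH (Or.inr rfl)
          show (partner n * q.1) x₀ ∈ B ↔ q.1 x₀ ∈ B
          rw [show partner n * q.1 = ((⟨partner n, hE partner_mem_pairGroup⟩ :
            (Q : Subgroup (Perm (Fin n)))) * q).1 from rfl, hiff, hiff, Subgroup.mul_mem_iff_of_index_two hHi]
          simp [hpH]
        · exact fun h => hq ((hiff q).1 h)
      · push_neg at hfull
        obtain ⟨c, hc⟩ := hfull
        exact ⟨S, fun q hq => Or.inl (hSinv q hq), hSp, MulAction.mem_orbit_self _, c, hc⟩
    refine ⟨partStab B, pairCentralizer n, hQB, fun q hq => mem_pairCentralizer.2 (commute_partner hE hq), ?_,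
      not_alt_le_pairCentralizer (by omega), ?_⟩
    · exact not_alt_le_partStab (Ne.symm hx₀p) hb0 ((hBp x₀).2 hb0) hc₀
    -- a side of the partition contains two pairs
    obtain ⟨a, c, B', hB', ha, hc, hca, hcp⟩ : ∃ (a c : Fin n) (B' : Set (Fin n)),
        (B' = B ∨ B' = Bᶜ) ∧ a ∈ B' ∧ c ∈ B' ∧ c ≠ a ∧ c ≠ partner n a := by
      by_contra hnot
      push_neg at hnot
      have hsub : (Finset.univ : Finset (Fin n)) ⊆ {x₀, partner n x₀, c₀, partner n c₀} := by
        intro x _
        simp only [Finset.mem_insert, Finset.mem_singleton]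
        by_cases hx : x ∈ B
        · by_cases hxa : x = x₀
          · tauto
          · right; left
            exact hnot x₀ x B (Or.inl rfl) hb0 hx hxa
        · by_cases hxa : x = c₀
          · tauto
          · right; right; right
            exact hnot c₀ x Bᶜ (Or.inr rfl) hc₀ hx hxa
      have := Finset.card_le_card hsub
      rw [Finset.card_univ, Fintype.card_fin] at this
      have h4 := Finset.card_le_four (a := x₀) (b := partner n x₀) (c := c₀) (d := partner n c₀)
      omega
    have hUB : partStab B' = partStab B := by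
      rcases hB' with rfl | rfl
      · rfl
      · ext σ
        show ((∀ x, σ x ∈ Bᶜ ↔ x ∈ Bᶜ) ∨ _) ↔ ((∀ x, σ x ∈ B ↔ x ∈ B) ∨ _)
        simp only [Set.mem_compl_iff, not_iff_not, not_not]
        refine or_congr Iff.rfl (forall_congr' fun x => ?_)
        tauto
    have hBp' : ∀ x, partner n x ∈ B' ↔ x ∈ B' := by
      rcases hB' with rfl | rfl
      · exact hBp
      · intro x; simp only [Set.mem_compl_iff, hBp x]
    rw [← hUB]
    set J := (partStab B' ⊓ alternatingGroup (Fin n)) ⊔ (pairCentralizer n ⊓ alternatingGroup (Fin n)) with hJ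
    set b := partner n a with hb
    have hab : a ≠ b := Ne.symm (hnofix a)
    refine alt_le_of_swaps (J := J) hab fun x hxa hxb => ?_
    by_cases hxB : x ∈ B'
    · refine (le_sup_left : _ ≤ J) ⟨(partStab B').mul_mem (swap_mem_partStab (by tauto))
        (swap_mem_partStab (by rw [hb, hBp' a])), three_mem_alt (Ne.symm hxa) hab⟩
    · set g : Perm (Fin n) := swap c x * swap (partner n c) (partner n x) with hg
      have hcx : c ≠ x := fun e => hxB (e ▸ hc)
      have hcpx : partner n c ≠ x := fun e => hxB (e ▸ (hBp' c).2 hc)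
      have hpcx : c ≠ partner n x := fun e => hcpx (by rw [e, partner_partner])
      have hpc : partner n c ≠ partner n x := fun e => hcx ((partner n).injective e)
      have hgW : g ∈ pairCentralizer n ⊓ alternatingGroup (Fin n) := by
        refine ⟨?_, ?_⟩
        · show g ∈ pairCentralizer n
          rw [mem_pairCentralizer]
          intro y
          have e : partner n * g * (partner n)⁻¹ = g := by
            have : partner n * g * (partner n)⁻¹ = (partner n * swap c x * (partner n)⁻¹) *
                (partner n * swap (partner n c) (partner n x) * (partner n)⁻¹) := by rw [hg]; group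
            rw [this, ← swap_apply_apply, ← swap_apply_apply, partner_partner, partner_partner, hg]
            apply Perm.Disjoint.commute
            intro z
            by_cases h : z = partner n c ∨ z = partner n x
            · right
              rcases h with rfl | rfl
              · exact swap_apply_of_ne_of_ne (hnofix c) hcpx
              · exact swap_apply_of_ne_of_ne (Ne.symm hpcx) (hnofix x)
            · push_neg at h
              left
              exact swap_apply_of_ne_of_ne h.1 h.2
          have := DFunLike.congr_fun (mul_inv_eq_iff_eq_mul.1 e) y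
          simpa using this.symm
        · show g ∈ alternatingGroup (Fin n)
          rw [Perm.mem_alternatingGroup, hg, map_mul, Perm.sign_swap hcx, Perm.sign_swap hpc]
          simp
      have hga : g a = a := by
        have e1 : a ≠ partner n c := fun e => hcp (((congrArg (partner n) e).trans (partner_partner n c)).symm)
        have e2 : a ≠ partner n x := fun e => hxb (((congrArg (partner n) e).trans (partner_partner n x)).symm)
        rw [hg, Perm.mul_apply, swap_apply_of_ne_of_ne e1 e2, swap_apply_of_ne_of_ne (Ne.symm hca) (Ne.symm hxa)]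
      have hgb : g b = b := by
        rw [hb, mem_pairCentralizer.1 hgW.1, hga]
      have hgc : g c = x := by
        rw [hg, Perm.mul_apply, swap_apply_of_ne_of_ne (Ne.symm (hnofix c)) hpcx, swap_apply_left]
      have e : swap a x * swap a b = g * (swap a c * swap a b) * g⁻¹ := by
        have : g * (swap a c * swap a b) * g⁻¹ = (g * swap a c * g⁻¹) * (g * swap a b * g⁻¹) := by group
        rw [this, ← swap_apply_apply, ← swap_apply_apply, hga, hgb, hgc]
      rw [e]
      have hin : swap a c * swap a b ∈ J := (le_sup_left : _ ≤ J) ⟨(partStab B').mul_mem (swap_mem_partStab (by tauto))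
        (swap_mem_partStab (by rw [hb, hBp' a])), three_mem_alt (Ne.symm hca) hab⟩
      have hgJ : g ∈ J := (le_sup_right : _ ≤ J) hgW
      exact J.mul_mem (J.mul_mem hgJ hin) (J.inv_mem hgJ)
  · -- odd degree
    set f : Fin n := ⟨n - 1, by omega⟩ with hf'
    have hf : partner n f = f := (partner_eq_self_iff n f).2 (by rcases hod with ⟨r, hr⟩; simp [hf']; omega)
    have hfS : f ∉ S := by
      rintro ⟨⟨q, hq⟩, hqf⟩
      have h1 : q x₀ = f := hqf
      have h2 := fixed_fix hE hq hf
      exact hx₀p (by rw [q.injective (h1.trans h2.symm)]; exact hf)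
    obtain ⟨y, hyf, hyS⟩ : ∃ y, y ≠ f ∧ y ∉ S := by
      by_contra hnot
      push_neg at hnot
      obtain ⟨m, hm⟩ := Q.2.card_orbit x₀
      have hc : Nat.card S = n - 1 := by
        have : S = {f}ᶜ := Set.ext fun x => ⟨fun hx e => hfS (Set.mem_singleton_iff.1 e ▸ hx), hnot x⟩
        rw [this, Nat.card_coe_set_eq, Set.ncard_compl, Set.ncard_singleton, Nat.card_fin]
      rw [hc] at hm
      refine hnk ⟨m, ?_, by omega⟩
      by_contra hm2
      have := Nat.pow_le_pow_right (show 2 > 0 by norm_num) (show m ≤ 1 by omega)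
      omega
    have hyp : partner n y ≠ y := fun e => hyf (fixed_unique e hf)
    have hpyS : partner n y ∉ S := fun h => hyS ((hSp y).1 h)
    have hpyf : partner n y ≠ f := fun e => hyf (by rw [← partner_partner n y, e, hf])
    have hx₀S : x₀ ∈ S := MulAction.mem_orbit_self _
    refine ⟨partStab S, MulAction.stabilizer (Perm (Fin n)) f, fun q hq => Or.inl (hSinv q hq),
      fun q hq => fixed_fix hE hq hf, not_alt_le_partStab (Ne.symm hx₀p) hx₀S ((hSp x₀).2 hx₀S) hyS, ?_, ?_⟩
    · exact not_alt_le_stabilizer (Ne.symm hx₀p) (fun e => hfS (e ▸ hx₀S)) (fun e => hfS (e ▸ (hSp x₀).2 hx₀S))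
    set J := (partStab S ⊓ alternatingGroup (Fin n)) ⊔
      (MulAction.stabilizer (Perm (Fin n)) f ⊓ alternatingGroup (Fin n)) with hJ
    set b := partner n x₀ with hb
    have hbS : b ∈ S := (hSp x₀).2 hx₀S
    have hfx : f ≠ x₀ := fun e => hfS (by rw [e]; exact hx₀S)
    have hfb : f ≠ b := fun e => hfS (by rw [e]; exact hbS)
    have hstab : ∀ x, x ≠ x₀ → x ≠ f → swap x₀ x * swap x₀ b ∈ J := fun x hx hxf => by
      refine (le_sup_right : _ ≤ J) ⟨?_, three_mem_alt (Ne.symm hx) (Ne.symm hx₀p)⟩
      show swap x₀ x * swap x₀ b ∈ MulAction.stabilizer (Perm (Fin n)) f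
      rw [MulAction.mem_stabilizer_iff, Perm.smul_def, Perm.mul_apply,
        swap_apply_of_ne_of_ne hfx hfb, swap_apply_of_ne_of_ne hfx (Ne.symm hxf)]
    refine alt_le_of_swaps (J := J) (Ne.symm hx₀p) fun x hxa hxb => ?_
    by_cases hxf : x = f
    · subst hxf
      set g : Perm (Fin n) := swap f y * swap y (partner n y) with hg
      have hgJ : g ∈ J := (le_sup_left : _ ≤ J) ⟨(partStab S).mul_mem (swap_mem_partStab (by tauto))
        (swap_mem_partStab (hSp y).symm), by
          show g ∈ alternatingGroup (Fin n)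
          rw [Perm.mem_alternatingGroup, hg, map_mul, Perm.sign_swap (Ne.symm hyf), Perm.sign_swap (Ne.symm hyp)]
          simp⟩
      have hfix : ∀ z ∈ S, g z = z := fun z hz => by
        have e1 : z ≠ y := fun e => hyS (by rw [← e]; exact hz)
        have e2 : z ≠ partner n y := fun e => hpyS (by rw [← e]; exact hz)
        have e3 : z ≠ f := fun e => hfS (by rw [← e]; exact hz)
        rw [hg, Perm.mul_apply, swap_apply_of_ne_of_ne e1 e2, swap_apply_of_ne_of_ne e3 e1]
      have hgy : g (partner n y) = f := by
        rw [hg, Perm.mul_apply, swap_apply_right, swap_apply_right]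
      have e : swap x₀ f * swap x₀ b = g * (swap x₀ (partner n y) * swap x₀ b) * g⁻¹ := by
        have : g * (swap x₀ (partner n y) * swap x₀ b) * g⁻¹ =
            (g * swap x₀ (partner n y) * g⁻¹) * (g * swap x₀ b * g⁻¹) := by group
        rw [this, ← swap_apply_apply, ← swap_apply_apply, hfix _ hx₀S, hfix _ hbS, hgy]
      rw [e]
      exact J.mul_mem (J.mul_mem hgJ (hstab _ (fun e => hpyS (e ▸ hx₀S)) hpyf)) (J.inv_mem hgJ)
    · exact hstab x hxa hxf

end Sylow

end Cfsg.Agent.SymSylow
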